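import Groth.Agent.Sga4h.BidGlobAC
import Groth.Agent.Sga4B.PkgB

/-!
# Poincaré duality (`SheafDual`) for proper smooth schemes over a separably closed field
-/

set_option autoImplicit false
universe u

open CategoryTheory CategoryTheory.Limits CategoryTheory.Abelian AlgebraicGeometry Opposite

namespace Groth.Agent.Vancyc.H700.PDSep

open Groth.Agent.Sga4h Groth.Agent.Sga4h.BidGlobDual Groth.Agent.Sga4h.BidGlobPkg
open Groth.Agent.Sga4B Groth.Agent.Sga4B.LMLS

/-- **Poincaré duality** in the category of sheaves of `ℤ/n`-modules, for a proper smooth scheme of relative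
dimension `d` over a separably closed field in which `n` is invertible: there is a trace
`tr : Ext^{2d}(Λ, Λ) → ℤ/n` such that `Ext^q(F, Λ) → Hom(Ext^{2d-q}(Λ, F), ℤ/n)` is bijective for all `F`. -/
theorem exists_sheafDual {k : Type u} [Field k] [IsSepClosed k] {P : Scheme.{u}}
    (a : P ⟶ Spec (CommRingCat.of k)) [IsProper a] (d : ℕ) [SmoothOfRelativeDimension d a] (n : ℕ)
    (hn : (n : k) ≠ 0) :
    ∃ tr : Ext.{u + 1} (cM (Lam.{u} n) P) (cM (Lam.{u} n) P) (2 * d) →+ ZMod n, SheafDual n tr := by
  have hn0 : 0 < n := Nat.pos_of_ne_zero fun h => hn (by rw [h, Nat.cast_zero])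
  obtain ⟨u1, u2, u3⟩ := BidGlobUH.uh_of_isPurelyInseparable k (AlgebraicClosure k)
  let g := Spec.map (CommRingCat.ofHom (algebraMap k (AlgebraicClosure k)))
  have hn' : (n : AlgebraicClosure k) ≠ 0 := by
    rw [← map_natCast (algebraMap k (AlgebraicClosure k)), ne_eq, map_eq_zero]
    exact hn
  have w1 : IsIntegralHom (pullback.fst a g) := inferInstance
  have w2 : UniversallyInjective (pullback.fst a g) :=
    MorphismProperty.of_isPullback (P := @UniversallyInjective.{u}) (IsPullback.of_hasPullback a g).flip u2
  have w3 : Surjective (pullback.fst a g) := inferInstance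
  have w4 : IsProper (pullback.snd a g) := inferInstance
  have w5 : SmoothOfRelativeDimension d (pullback.snd a g) := by
    have := smoothOfRelativeDimension_isStableUnderBaseChange d
    exact MorphismProperty.of_isPullback (P := @SmoothOfRelativeDimension.{u} d) (IsPullback.of_hasPullback a g)
      inferInstance
  obtain ⟨tr', A⟩ := BidGlobAC.exists_sheafDual (pullback.snd a g) d n hn0
    (PkgB.pkg (AlgebraicClosure k) n hn' d)
  exact BidGlobUH.exists_sheafDual (Lam.{u} n) (pullback.fst a g) A

end Groth.Agent.Vancyc.H700.PDSep
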