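import Groth.Agent.Vancyc.H700.AsmCore
import Groth.Agent.Vancyc.H700.PDSep
import Groth.Agent.Vancyc.H679.PicLefHK

/-!
# The structural Picard–Lefschetz theorem for `n ≥ 1`, from the local statements at ordinary quadratic points
-/

set_option autoImplicit false
universe u

open CategoryTheory CategoryTheory.Limits AlgebraicGeometry

namespace Groth.Agent.Vancyc.H700.AsmRow

open Groth.Agent.Vancyc.H679.GoodSing

/-- The local input on the Galois action at an ordinary quadratic point (shape of `S4011` and `S4012`). -/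
def InSign (R K Ω : Type u) [CommRing R] [IsLocalRing R] [Field K] [Algebra R K] [Field Ω] [Algebra K Ω] [Algebra R Ω]
    [IsScalarTower R K Ω] {X : Scheme.{u}} (f : X ⟶ Spec (CommRingCat.of R)) (n N : ℕ) : Prop :=
  ∀ x : ↥(VanCyc.spFib R f), IsClosed ({x} : Set ↥(VanCyc.spFib R f)) →
    VanCyc.IsOrdQuadPt (VanCyc.resHom (VanCyc.spStr R f) x) n →
    ∀ (V : X.Opens), (VanCyc.icl R f).base x ∈ V → Smooth (pullback.snd (V.ι ≫ f) (VanCyc.toS R K)) →
    ∀ (Ω' : Type u) [Field Ω'] [IsSepClosed Ω'] (ξ : Spec (CommRingCat.of Ω') ⟶ VanCyc.spFib R f),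
      ξ.base (IsLocalRing.closedPoint Ω') = x → ∀ σ : Ω ≃ₐ[K] Ω,
      ∃ ε : ℤ, ((ε = 1 ∨ ε = -1) ∧ (Odd n → ε = 1)) ∧
        (EtCoh.stalk ξ).map (VanCyc.psiGal f σ n (EtCoh.const X (ZMod N))) = ε • 𝟙 _

/-- **Picard–Lefschetz in structural form**, `n ≥ 1`, from `S3994`, `S4011`, `S4012`. -/
theorem main (R K Ω : Type u) [CommRing R] [IsDomain R] [IsDiscreteValuationRing R]
    (hR : EtCoh.IsStrictlyHenselianLocalRing R) [Field K] [Algebra R K] [IsFractionRing R K] [Field Ω] [Algebra K Ω]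
    [IsSepClosure K Ω] [Algebra R Ω] [IsScalarTower R K Ω]
    {X : Scheme.{u}} (f : X ⟶ Spec (CommRingCat.of R)) [IsProper f] [Flat f] (n : ℕ) (hn : 1 ≤ n)
    (hη : SmoothOfRelativeDimension n (VanCyc.fibStr R f K))
    (Sing : Finset ↥(VanCyc.spFib R f)) (hSc : ∀ x ∈ Sing, IsClosed ({x} : Set ↥(VanCyc.spFib R f)))
    (hSq : ∀ x ∈ Sing, VanCyc.IsOrdQuadPt (VanCyc.resHom (VanCyc.spStr R f) x) n)
    (U : (VanCyc.spFib R f).Opens) (hU : ∀ x : ↥(VanCyc.spFib R f), x ∉ Sing → x ∈ U)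
    (hUs : SmoothOfRelativeDimension n (U.ι ≫ VanCyc.spStr R f))
    (N : ℕ) (hN : IsUnit (N : R)) [PreservesFiniteLimits (EtCoh.pull (VanCyc.jA R f Ω))]
    (hQ : InQuad R K Ω f n N) (hG : InSign R K Ω f n N) :
    ∃ δ : ↥Sing → EtCoh.H (VanCyc.fib R f Ω) ((EtCoh.pull (VanCyc.jA R f Ω)).obj (EtCoh.const X (ZMod N))) n,
      (∀ (σ : Ω ≃ₐ[K] Ω) [PreservesFiniteLimits (EtCoh.pull (VanCyc.galGeom f σ))] (x : ↥Sing),
          (VanCyc.galH f σ (EtCoh.const X (ZMod N)) n (δ x) = δ x ∨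
            VanCyc.galH f σ (EtCoh.const X (ZMod N)) n (δ x) = -δ x) ∧
          (Odd n → VanCyc.galH f σ (EtCoh.const X (ZMod N)) n (δ x) = δ x)) ∧
      ∀ (σ : Ω ≃ₐ[K] Ω) [PreservesFiniteLimits (EtCoh.pull (VanCyc.galGeom f σ))]
        (a : EtCoh.H (VanCyc.fib R f Ω) ((EtCoh.pull (VanCyc.jA R f Ω)).obj (EtCoh.const X (ZMod N))) n),
        VanCyc.galH f σ (EtCoh.const X (ZMod N)) n a - a ∈ AddSubgroup.closure (Set.range δ) := by
  have i1 : IsSepClosed Ω := IsSepClosure.sep_closed K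
  have i2 : Algebra.IsSeparable K Ω := IsSepClosure.separable
  have i3 : SmoothOfRelativeDimension n (VanCyc.fibStr R f Ω) := Geo.smooth_fib f n hη
  have hη' : Smooth (VanCyc.fibStr R f K) := SmoothOfRelativeDimension.smooth n _
  have hV := Vancyc.H678.SmoothW.smooth_top_generic R K f ⊤ hη'
  choose Ω' j1 j2 ξ hξ using fun x : ↥Sing => Etcore.Stalks.exists_geom x.1
  have hξ' : ∀ x : ↥Sing, (ξ x).base (IsLocalRing.closedPoint (Ω' x)) = x.1 := fun x =>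
    base_closedPoint (ξ x) x.1 (hξ x)
  have hQ' := fun x : ↥Sing => hQ x.1 (hSc _ x.2) (hSq _ x.2) ⊤ trivial hV (Ω' x) (ξ x) (hξ' x)
  exact AsmCore.main f n N (Geo.pos_of_isUnit hN)
    (PDSep.exists_sheafDual (VanCyc.fibStr R f Ω) n N (Geo.natCast_ne_zero hN)) Ω' ξ
    (fun m a ha => Vancyc.H679.PicLefHK.hK R K Ω hR f n Sing hSc U hU hUs N hN Ω' ξ hξ m a ha)
    (fun x => (hQ' x).2.1 (2 * n) (by omega) (by omega)) (fun x => (hQ' x).2.2)
    (fun x σ => hG x.1 (hSc _ x.2) (hSq _ x.2) ⊤ trivial hV (Ω' x) (ξ x) (hξ' x) σ)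

end Groth.Agent.Vancyc.H700.AsmRow
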