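import Groth.Agent.Vancyc.H700.Main0
import Groth.Agent.Vancyc.H699.Dim0

/-!
# The Picard–Lefschetz theorem in structural form, dimension `0`
-/

set_option autoImplicit false
universe u

open CategoryTheory CategoryTheory.Limits AlgebraicGeometry

namespace Groth.Agent.Vancyc.H700.Case0

/-- The case `n = 0` of the structural Picard–Lefschetz theorem. -/
theorem main (R K Ω : Type u) [CommRing R] [IsDomain R] [IsDiscreteValuationRing R]
    (hR : EtCoh.IsStrictlyHenselianLocalRing R) [Field K] [Algebra R K] [Field Ω] [Algebra K Ω]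
    [IsSepClosed Ω] [Algebra R Ω] [IsScalarTower R K Ω]
    {X : Scheme.{u}} (f : X ⟶ Spec (CommRingCat.of R)) [IsProper f] [Flat f]
    (hη : SmoothOfRelativeDimension 0 (VanCyc.fibStr R f K))
    (Sing : Finset ↥(VanCyc.spFib R f)) (hSc : ∀ x ∈ Sing, IsClosed ({x} : Set ↥(VanCyc.spFib R f)))
    (hSq : ∀ x ∈ Sing, VanCyc.IsOrdQuadPt (VanCyc.resHom (VanCyc.spStr R f) x) 0)
    (U : (VanCyc.spFib R f).Opens) (hU : ∀ x : ↥(VanCyc.spFib R f), x ∉ Sing → x ∈ U)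
    (hUs : SmoothOfRelativeDimension 0 (U.ι ≫ VanCyc.spStr R f)) (N : ℕ) :
    ∃ δ : ↥Sing → EtCoh.H (VanCyc.fib R f Ω) ((EtCoh.pull (VanCyc.jA R f Ω)).obj (EtCoh.const X (ZMod N))) 0,
      (∀ (σ : Ω ≃ₐ[K] Ω) [PreservesFiniteLimits (EtCoh.pull (VanCyc.galGeom f σ))] (x : ↥Sing),
          (VanCyc.galH f σ (EtCoh.const X (ZMod N)) 0 (δ x) = δ x ∨
            VanCyc.galH f σ (EtCoh.const X (ZMod N)) 0 (δ x) = -δ x) ∧
          (Odd 0 → VanCyc.galH f σ (EtCoh.const X (ZMod N)) 0 (δ x) = δ x)) ∧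
      ∀ (σ : Ω ≃ₐ[K] Ω) [PreservesFiniteLimits (EtCoh.pull (VanCyc.galGeom f σ))]
        (a : EtCoh.H (VanCyc.fib R f Ω) ((EtCoh.pull (VanCyc.jA R f Ω)).obj (EtCoh.const X (ZMod N))) 0),
        VanCyc.galH f σ (EtCoh.const X (ZMod N)) 0 a - a ∈ AddSubgroup.closure (Set.range δ) := by
  obtain ⟨hfin, r, hr⟩ := H699.Dim0.geo R K Ω hR f hη Sing hSc hSq U hU hUs
  obtain ⟨δ, h1, h2⟩ := Main0.main (K := K) (Ω := Ω) f Sing hfin r (fun x => (hr x).1) (fun x => (hr x).2) N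
  exact ⟨δ, fun σ _ x => ⟨h1 σ x, fun h => absurd h (by decide)⟩, fun σ _ a => h2 σ a⟩

end Groth.Agent.Vancyc.H700.Case0
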