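import Groth.Prelude.Def_VanCyc

/-!
# The geometric generic fibre: smoothness, separably closed field, invertible integers
-/

set_option autoImplicit false
universe u

open CategoryTheory CategoryTheory.Limits AlgebraicGeometry

namespace Groth.Agent.Vancyc.H700.Geo

variable {R K Ω : Type u} [CommRing R] [Field K] [Algebra R K] [Field Ω] [Algebra K Ω]
  [Algebra R Ω] [IsScalarTower R K Ω] {X : Scheme.{u}} (f : X ⟶ Spec (CommRingCat.of R))

theorem spec_comp : Spec.map (CommRingCat.ofHom (algebraMap K Ω)) ≫ VanCyc.toS R K = VanCyc.toS R Ω := by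
  unfold VanCyc.toS
  rw [← Spec.map_comp, ← CommRingCat.ofHom_comp, ← IsScalarTower.algebraMap_eq R K Ω]

/-- The geometric generic fibre is smooth of relative dimension `n`. -/
theorem smooth_fib (n : ℕ) (h : SmoothOfRelativeDimension n (VanCyc.fibStr R f K)) :
    SmoothOfRelativeDimension n (VanCyc.fibStr R f Ω) := by
  have h1 : IsPullback (VanCyc.jA R f K) (VanCyc.fibStr R f K) f (VanCyc.toS R K) :=
    IsPullback.of_hasPullback f (VanCyc.toS R K)
  have h2 : IsPullback (VanCyc.jA R f Ω) (VanCyc.fibStr R f Ω) f (VanCyc.toS R Ω) :=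
    IsPullback.of_hasPullback f (VanCyc.toS R Ω)
  let g : VanCyc.fib R f Ω ⟶ VanCyc.fib R f K := h1.lift (VanCyc.jA R f Ω)
    (VanCyc.fibStr R f Ω ≫ Spec.map (CommRingCat.ofHom (algebraMap K Ω))) (by
      rw [h2.w, Category.assoc, spec_comp])
  have h3 : IsPullback g (VanCyc.fibStr R f Ω) (VanCyc.fibStr R f K)
      (Spec.map (CommRingCat.ofHom (algebraMap K Ω))) := by
    refine IsPullback.of_right ?_ (h1.lift_snd _ _ _) h1
    rw [h1.lift_fst, spec_comp]
    exact h2
  have := smoothOfRelativeDimension_isStableUnderBaseChange n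
  exact MorphismProperty.of_isPullback (P := @SmoothOfRelativeDimension.{u} n) h3 h

theorem natCast_ne_zero {N : ℕ} (hN : IsUnit (N : R)) : (N : Ω) ≠ 0 := by
  have h := hN.map (algebraMap R Ω)
  rw [map_natCast] at h
  exact h.ne_zero

theorem pos_of_isUnit {N : ℕ} [Nontrivial R] (hN : IsUnit (N : R)) : 0 < N :=
  Nat.pos_of_ne_zero fun h => by
    subst h
    rw [Nat.cast_zero] at hN
    exact not_isUnit_zero hN

end Groth.Agent.Vancyc.H700.Geo
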