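import Groth.Agent.Vancyc.H700.LocGal

/-!
# `galM` on the Milnor fibre from the action on the stalk of nearby cycles
-/

set_option autoImplicit false
universe u

open CategoryTheory CategoryTheory.Limits CategoryTheory.Abelian AlgebraicGeometry Opposite
open scoped Groth.Agent.Etcore.EtInst
open Groth.Agent.Etcore.EtInst Groth.Agent.Etcore.HpullCalc Groth.Agent.Etcore.HpVia
open Groth.Agent Groth.Agent.EtpbcB Groth.Agent.EtpbcB.StrictLoc Groth.Agent.Etcore.PullCoh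

namespace Groth.Agent.Vancyc.H700.LocGalM

open Groth.Agent.Vancyc.H681.Restr

variable {R : Type u} [CommRing R] {K : Type u} [Field K] [Algebra R K]
  {Ω : Type u} [Field Ω] [Algebra K Ω] [Algebra R Ω] [IsScalarTower R K Ω]
  {X P : Scheme.{u}} (f : X ⟶ Spec (CommRingCat.of R))

theorem galM_eq (g : P ⟶ X) (σ : Ω ≃ₐ[K] Ω) [PreservesFiniteLimits (EtCoh.pull (VanCyc.galGeom (g ≫ f) σ))]
    (F : EtCoh.Ab X) (n : ℕ) : galM f g σ F n =
      hpVia (VanCyc.galGeom (g ≫ f) σ) (VanCyc.jA R (g ≫ f) Ω ≫ g) (VanCyc.jA R (g ≫ f) Ω ≫ g)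
        (galGeom_jA_comp f g σ) F n := rfl

/-- If `σ` acts on the stalk of nearby cycles as an integer, it acts on the cohomology of the Milnor fibre by the same
integer. -/
theorem galM_eq_smul [IsLocalRing R] [IsNoetherianRing R] [IsFractionRing R K] [Algebra.IsSeparable K Ω]
    {Ω' : Type u} [Field Ω'] [IsSepClosed Ω'] (ξ : Spec (CommRingCat.of Ω') ⟶ VanCyc.spFib R f)
    (F : EtCoh.Ab X) (n : ℕ)
    [i : ∀ σ : Ω ≃ₐ[K] Ω, PreservesFiniteLimits (EtCoh.pull (VanCyc.galGeom (toBase (ξ ≫ VanCyc.icl R f) ≫ f) σ))]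
    (σ : Ω ≃ₐ[K] Ω) (ε : ℤ) (h : (EtCoh.stalk ξ).map (VanCyc.psiGal f σ n F) = ε • 𝟙 _)
    (y : HH (VanCyc.fib R (toBase (ξ ≫ VanCyc.icl R f) ≫ f) Ω)
      ((EtCoh.pull (VanCyc.jA R (toBase (ξ ≫ VanCyc.icl R f) ≫ f) Ω ≫ toBase (ξ ≫ VanCyc.icl R f))).obj F) n) :
    galM f (toBase (ξ ≫ VanCyc.icl R f)) σ F n y = ε • y :=
  LocGal.hpVia_eq_smul f ξ F n (t := VanCyc.jA R (toBase (ξ ≫ VanCyc.icl R f) ≫ f) Ω ≫ toBase (ξ ≫ VanCyc.icl R f))
    rfl (fun σ => galGeom_jA_comp f (toBase (ξ ≫ VanCyc.icl R f)) σ) σ ε h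
    (galM f (toBase (ξ ≫ VanCyc.icl R f)) σ F n) (galM_eq f (toBase (ξ ≫ VanCyc.icl R f)) σ F n) y

end Groth.Agent.Vancyc.H700.LocGalM
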