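import Groth.Agent.Vancyc.H700.LocVal
import Groth.Agent.Vancyc.H700.LocGalM

/-!
# The functional attached to a singular point
-/

set_option autoImplicit false
universe u v w

open CategoryTheory CategoryTheory.Limits CategoryTheory.Abelian AlgebraicGeometry Opposite
open scoped Groth.Agent.Etcore.EtInst
open Groth.Agent.Etcore.EtInst Groth.Agent.Etcore.HpullCalc
open Groth.Agent.Vancyc.H681.Restr Groth.Agent.EtpbcB.StrictLoc

namespace Groth.Agent.Vancyc.H700.LocFun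

/-- The formal part: a functional from a restriction map with an equivariance property. -/
theorem exists_functional {H M : Type*} [AddCommGroup H] [AddCommGroup M] (N : ℕ) (r : H →+ M)
    (E : Nonempty (M ≃+ ZMod N)) {ι : Type*} (s : ι → H → H) (sM : ι → M → M)
    (hr : ∀ i a, r (s i a) = sM i (r a)) (P : ℤ → Prop) (hs : ∀ i, ∃ ε : ℤ, P ε ∧ ∀ y, sM i y = ε • y) :
    ∃ e : H →+ ZMod N, (∀ a, e a = 0 → r a = 0) ∧ ∀ i, ∃ ε : ℤ, P ε ∧ ∀ a, e (s i a) = ε • e a := by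
  obtain ⟨E⟩ := E
  refine ⟨E.toAddMonoidHom.comp r, fun a ha => ?_, fun i => ?_⟩
  · exact E.injective (Eq.trans ha (map_zero E).symm)
  · obtain ⟨ε, h1, h2⟩ := hs i
    refine ⟨ε, h1, fun a => ?_⟩
    change E (r (s i a)) = ε • E (r a)
    rw [hr, h2, map_zsmul]

/-- The Milnor fibre has no cohomology in a degree where the stalk of nearby cycles vanishes. -/
theorem subsingleton_M {R : Type u} [CommRing R] [IsLocalRing R] {Ω : Type u} [Field Ω] [Algebra R Ω]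
    {X : Scheme.{u}} (f : X ⟶ Spec (CommRingCat.of R)) {Ω' : Type u} [Field Ω'] [IsSepClosed Ω']
    (ξ : Spec (CommRingCat.of Ω') ⟶ VanCyc.spFib R f) (F : EtCoh.Ab X) (q : ℕ)
    (h : IsZero ((EtCoh.stalk ξ).obj (VanCyc.psi R Ω f q ((EtCoh.pull (VanCyc.jA R f Ω)).obj F)))) :
    Subsingleton (HH (VanCyc.fib R (toBase (ξ ≫ VanCyc.icl R f) ≫ f) Ω)
      ((EtCoh.pull (VanCyc.jA R (toBase (ξ ≫ VanCyc.icl R f) ≫ f) Ω ≫ toBase (ξ ≫ VanCyc.icl R f))).obj F) q) := by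
  obtain ⟨e⟩ := LocVal.nonempty_equiv (Ω := Ω) f ξ F q ⟨Iso.refl _⟩
  have := AddCommGrpCat.subsingleton_of_isZero h
  exact e.toEquiv.subsingleton

/-- The value `ℤ/N`. -/
theorem nonempty_zmod {R : Type u} [CommRing R] [IsLocalRing R] {Ω : Type u} [Field Ω] [Algebra R Ω]
    {X : Scheme.{u}} (f : X ⟶ Spec (CommRingCat.of R)) {Ω' : Type u} [Field Ω'] [IsSepClosed Ω']
    (ξ : Spec (CommRingCat.of Ω') ⟶ VanCyc.spFib R f) (F : EtCoh.Ab X) (q N : ℕ)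
    (h : Nonempty ((EtCoh.stalk ξ).obj (VanCyc.psi R Ω f q ((EtCoh.pull (VanCyc.jA R f Ω)).obj F)) ≅
      AddCommGrpCat.of (ULift.{u + 1} (ZMod N)))) :
    Nonempty (HH (VanCyc.fib R (toBase (ξ ≫ VanCyc.icl R f) ≫ f) Ω)
      ((EtCoh.pull (VanCyc.jA R (toBase (ξ ≫ VanCyc.icl R f) ≫ f) Ω ≫ toBase (ξ ≫ VanCyc.icl R f))).obj F) q ≃+
      ZMod N) := by
  obtain ⟨e⟩ := LocVal.nonempty_equiv (Ω := Ω) f ξ F q h
  exact ⟨e.trans AddEquiv.ulift⟩

/-- The functional attached to a point `ξ`: its kernel is the kernel of the restriction to the Milnor fibre, and it is an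
eigenvector of the Galois group. -/
theorem exists_e {R K Ω : Type u} [CommRing R] [IsLocalRing R] [IsNoetherianRing R] [Field K] [Algebra R K]
    [IsFractionRing R K] [Field Ω] [Algebra K Ω] [Algebra.IsSeparable K Ω] [Algebra R Ω] [IsScalarTower R K Ω]
    {X : Scheme.{u}} (f : X ⟶ Spec (CommRingCat.of R)) {Ω' : Type u} [Field Ω'] [IsSepClosed Ω']
    (ξ : Spec (CommRingCat.of Ω') ⟶ VanCyc.spFib R f) (F : EtCoh.Ab X) (n N : ℕ)
    (hA : Nonempty ((EtCoh.stalk ξ).obj (VanCyc.psi R Ω f n ((EtCoh.pull (VanCyc.jA R f Ω)).obj F)) ≅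
      AddCommGrpCat.of (ULift.{u + 1} (ZMod N))))
    (P : ℤ → Prop) (hS : ∀ σ : Ω ≃ₐ[K] Ω, ∃ ε : ℤ, P ε ∧
      (EtCoh.stalk ξ).map (VanCyc.psiGal f σ n F) = ε • 𝟙 _) :
    ∃ e : HH (VanCyc.fib R f Ω) ((EtCoh.pull (VanCyc.jA R f Ω)).obj F) n →+ ZMod N,
      (∀ a, e a = 0 → resM f (toBase (ξ ≫ VanCyc.icl R f)) F n a = 0) ∧
      ∀ σ : Ω ≃ₐ[K] Ω, ∃ ε : ℤ, P ε ∧ ∀ a, e (VanCyc.galH f σ F n a) = ε • e a :=
  exists_functional N (resM f (toBase (ξ ≫ VanCyc.icl R f)) F n) (nonempty_zmod f ξ F n N hA)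
    (fun σ : Ω ≃ₐ[K] Ω => VanCyc.galH f σ F n) (fun σ => galM f (toBase (ξ ≫ VanCyc.icl R f)) σ F n)
    (fun σ a => resM_galH f (toBase (ξ ≫ VanCyc.icl R f)) (fun h => inferInstance) σ F n a) P
    (fun σ => by
      obtain ⟨ε, h1, h2⟩ := hS σ
      exact ⟨ε, h1, fun y => LocGalM.galM_eq_smul f ξ F n σ ε h2 y⟩)

end Groth.Agent.Vancyc.H700.LocFun
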