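import Groth.Agent.Vancyc.H700.Formal
import Groth.Agent.Vancyc.H700.LocFun
import Groth.Agent.Vancyc.H700.Geo

/-!
# Picard–Lefschetz in structural form from the stalks of nearby cycles at the singular points
-/

set_option autoImplicit false
universe u v w

open CategoryTheory CategoryTheory.Limits CategoryTheory.Abelian AlgebraicGeometry Opposite
open scoped Groth.Agent.Etcore.EtInst
open Groth.Agent.Sga4h.BidGlobDual Groth.Agent.Sga4h.BidGlobPkg Groth.Agent.Sga4B.LMLS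
open Groth.Agent.Etcore.EtInst Groth.Agent.Etcore.HpullCalc
open Groth.Agent.Vancyc.H681.Restr Groth.Agent.EtpbcB.StrictLoc

namespace Groth.Agent.Vancyc.H700.AsmCore

/-- The Galois action is trivial on the image of the cohomology of `X`. -/
theorem galH_of_lift {R K Ω : Type u} [CommRing R] [Field K] [Algebra R K] [Field Ω] [Algebra K Ω]
    [Algebra R Ω] [IsScalarTower R K Ω] {X : Scheme.{u}} (f : X ⟶ Spec (CommRingCat.of R)) (F : EtCoh.Ab X) (m : ℕ)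
    [PreservesFiniteLimits (EtCoh.pull (VanCyc.jA R f Ω))]
    (a : HH (VanCyc.fib R f Ω) ((EtCoh.pull (VanCyc.jA R f Ω)).obj F) m)
    (h : ∃ b : HH X F m, hp (VanCyc.jA R f Ω) F m b = a)
    (σ : Ω ≃ₐ[K] Ω) [PreservesFiniteLimits (EtCoh.pull (VanCyc.galGeom f σ))] :
    VanCyc.galH f σ F m a = a := by
  obtain ⟨b, rfl⟩ := h
  have h1 := Formal.galH_eq f σ F m (hp (VanCyc.jA R f Ω) F m b)
  exact h1.trans (hpVia_hp (VanCyc.galGeom f σ) (VanCyc.jA R f Ω) (VanCyc.jA R f Ω) (VanCyc.galGeom_jA f σ)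
      F m b)

/-- **Picard–Lefschetz in structural form**, `n ≥ 1`, from Poincaré duality on `X_Ω`, `hK` (classes dying on the Milnor
fibres at the points `ξ x` lift) and the stalks of nearby cycles at the `ξ x` with their Galois action. -/
theorem main {R K Ω : Type u} [CommRing R] [IsLocalRing R] [IsNoetherianRing R] [Field K] [Algebra R K]
    [IsFractionRing R K] [Field Ω] [Algebra K Ω] [Algebra.IsSeparable K Ω] [Algebra R Ω] [IsScalarTower R K Ω]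
    {X : Scheme.{u}} (f : X ⟶ Spec (CommRingCat.of R)) (n : ℕ) (N : ℕ) (hN : 0 < N)
    [PreservesFiniteLimits (EtCoh.pull (VanCyc.jA R f Ω))]
    (A : ∃ tr : Ext.{u + 1} (cM (Lam.{u} N) (VanCyc.fib R f Ω)) (cM (Lam.{u} N) (VanCyc.fib R f Ω)) (2 * n) →+ ZMod N,
      SheafDual N tr)
    {ι : Type v} [Finite ι] (Ω' : ι → Type u) [∀ x, Field (Ω' x)] [∀ x, IsSepClosed (Ω' x)]
    (ξ : ∀ x : ι, Spec (CommRingCat.of (Ω' x)) ⟶ VanCyc.spFib R f)
    (hK : ∀ (m : ℕ) (a : HH (VanCyc.fib R f Ω) ((EtCoh.pull (VanCyc.jA R f Ω)).obj (EtCoh.const X (ZMod N))) m)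
      (_ : ∀ x : ι, resM f (toBase (ξ x ≫ VanCyc.icl R f)) (EtCoh.const X (ZMod N)) m a = 0),
      ∃ b : HH X (EtCoh.const X (ZMod N)) m, hp (VanCyc.jA R f Ω) (EtCoh.const X (ZMod N)) m b = a)
    (hV : ∀ x : ι, IsZero ((EtCoh.stalk (ξ x)).obj (VanCyc.psi R Ω f (2 * n)
      ((EtCoh.pull (VanCyc.jA R f Ω)).obj (EtCoh.const X (ZMod N))))))
    (hA : ∀ x : ι, Nonempty ((EtCoh.stalk (ξ x)).obj (VanCyc.psi R Ω f n
      ((EtCoh.pull (VanCyc.jA R f Ω)).obj (EtCoh.const X (ZMod N)))) ≅ AddCommGrpCat.of (ULift.{u + 1} (ZMod N))))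
    (hS : ∀ (x : ι) (σ : Ω ≃ₐ[K] Ω), ∃ ε : ℤ, ((ε = 1 ∨ ε = -1) ∧ (Odd n → ε = 1)) ∧
      (EtCoh.stalk (ξ x)).map (VanCyc.psiGal f σ n (EtCoh.const X (ZMod N))) = ε • 𝟙 _) :
    ∃ δ : ι → EtCoh.H (VanCyc.fib R f Ω) ((EtCoh.pull (VanCyc.jA R f Ω)).obj (EtCoh.const X (ZMod N))) n,
      (∀ (σ : Ω ≃ₐ[K] Ω) [PreservesFiniteLimits (EtCoh.pull (VanCyc.galGeom f σ))] (x : ι),
          (VanCyc.galH f σ (EtCoh.const X (ZMod N)) n (δ x) = δ x ∨
            VanCyc.galH f σ (EtCoh.const X (ZMod N)) n (δ x) = -δ x) ∧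
          (Odd n → VanCyc.galH f σ (EtCoh.const X (ZMod N)) n (δ x) = δ x)) ∧
      ∀ (σ : Ω ≃ₐ[K] Ω) [PreservesFiniteLimits (EtCoh.pull (VanCyc.galGeom f σ))]
        (a : EtCoh.H (VanCyc.fib R f Ω) ((EtCoh.pull (VanCyc.jA R f Ω)).obj (EtCoh.const X (ZMod N))) n),
        VanCyc.galH f σ (EtCoh.const X (ZMod N)) n a - a ∈ AddSubgroup.closure (Set.range δ) := by
  choose e he1 he2 using fun x : ι => LocFun.exists_e (K := K) (Ω := Ω) f (ξ x) (EtCoh.const X (ZMod N)) n N (hA x)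
    (fun ε => (ε = 1 ∨ ε = -1) ∧ (Odd n → ε = 1)) (hS x)
  have hvan := fun x : ι => LocFun.subsingleton_M f (ξ x) (EtCoh.const X (ZMod N)) (2 * n) (hV x)
  refine Formal.exists_classes_of_sheafDual f n N hN A e ?_ ?_ ?_
  · intro σ _
    ext a
    exact galH_of_lift f (EtCoh.const X (ZMod N)) (2 * n) a (hK (2 * n) a fun x =>
      @Subsingleton.elim _ (hvan x) _ _) σ
  · intro a ha σ _
    exact galH_of_lift f (EtCoh.const X (ZMod N)) n a (hK n a fun x => he1 x a (ha x)) σ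
  · intro σ _ x
    obtain ⟨ε, ⟨h1, h2⟩, h3⟩ := he2 x σ
    exact ⟨ε, h1, h2, h3⟩

end Groth.Agent.Vancyc.H700.AsmCore
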