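import Groth.Agent.Vancyc.H700.Formal
import Groth.Agent.Vancyc.H681.Restr

/-!
# Picard–Lefschetz in structural form, `n ≥ 1`, from the local inputs

The local inputs are given on a family `g x : P x ⟶ X` (`x ∈ Sing`), e.g. the strict localizations of `X` at the
singular points:
* classes of `H^n(X_Ω)` which die on all `(P x)_Ω` come from `H^n(X)`;
* `H^n((P x)_Ω, ℤ/N) ≃ ℤ/N`, with `Gal(Ω/K)` acting by signs (trivially if `n` is odd);
* `Gal(Ω/K)` acts trivially on `H^{2n}(X_Ω)`.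
-/

set_option autoImplicit false
universe u v w

open CategoryTheory CategoryTheory.Limits CategoryTheory.Abelian AlgebraicGeometry Opposite
open scoped Groth.Agent.Etcore.EtInst
open Groth.Agent.Sga4h.BidGlobDual Groth.Agent.Sga4h.BidGlobPkg Groth.Agent.Sga4B.LMLS
open Groth.Agent.Etcore.EtInst Groth.Agent.Etcore.HpullCalc
open Groth.Agent.Vancyc.H681.Restr

namespace Groth.Agent.Vancyc.H700.AsmPos

variable {R K Ω : Type u} [CommRing R] [Field K] [Algebra R K] [Field Ω] [Algebra K Ω]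
  [Algebra R Ω] [IsScalarTower R K Ω] {X : Scheme.{u}} (f : X ⟶ Spec (CommRingCat.of R))

/-- The structural Picard–Lefschetz theorem from Poincaré duality on `X_Ω` and the local inputs. -/
theorem main (n N : ℕ) (hN : 0 < N) [PreservesFiniteLimits (EtCoh.pull (VanCyc.jA R f Ω))]
    (A : ∃ tr : Ext.{u + 1} (cM (Lam.{u} N) (VanCyc.fib R f Ω)) (cM (Lam.{u} N) (VanCyc.fib R f Ω)) (2 * n) →+ ZMod N,
      SheafDual N tr)
    (h0 : ∀ (σ : Ω ≃ₐ[K] Ω) [PreservesFiniteLimits (EtCoh.pull (VanCyc.galGeom f σ))],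
      VanCyc.galH f σ (EtCoh.const X (ZMod N)) (2 * n) = AddMonoidHom.id _)
    {ι : Type v} [Finite ι] (P : ι → Scheme.{u}) (g : ∀ i, P i ⟶ X)
    (hK : ∀ a : HH (VanCyc.fib R f Ω) ((EtCoh.pull (VanCyc.jA R f Ω)).obj (EtCoh.const X (ZMod N))) n,
      (∀ i, resM f (g i) (EtCoh.const X (ZMod N)) n a = 0) →
        ∃ b : HH X (EtCoh.const X (ZMod N)) n, hp (VanCyc.jA R f Ω) (EtCoh.const X (ZMod N)) n b = a)
    (hA : ∀ i, Nonempty (HH (VanCyc.fib R (g i ≫ f) Ω)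
      ((EtCoh.pull (VanCyc.jA R (g i ≫ f) Ω ≫ g i)).obj (EtCoh.const X (ZMod N))) n ≃+ ZMod N))
    (hε : ∀ (σ : Ω ≃ₐ[K] Ω) (i : ι) [PreservesFiniteLimits (EtCoh.pull (VanCyc.galGeom (g i ≫ f) σ))],
      ∃ ε : ℤ, (ε = 1 ∨ ε = -1) ∧ (Odd n → ε = 1) ∧
        ∀ y, galM f (g i) σ (EtCoh.const X (ZMod N)) n y = ε • y) :
    ∃ δ : ι → EtCoh.H (VanCyc.fib R f Ω) ((EtCoh.pull (VanCyc.jA R f Ω)).obj (EtCoh.const X (ZMod N))) n,
      (∀ (σ : Ω ≃ₐ[K] Ω) [PreservesFiniteLimits (EtCoh.pull (VanCyc.galGeom f σ))] (x : ι),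
          (VanCyc.galH f σ (EtCoh.const X (ZMod N)) n (δ x) = δ x ∨
            VanCyc.galH f σ (EtCoh.const X (ZMod N)) n (δ x) = -δ x) ∧
          (Odd n → VanCyc.galH f σ (EtCoh.const X (ZMod N)) n (δ x) = δ x)) ∧
      ∀ (σ : Ω ≃ₐ[K] Ω) [PreservesFiniteLimits (EtCoh.pull (VanCyc.galGeom f σ))]
        (a : EtCoh.H (VanCyc.fib R f Ω) ((EtCoh.pull (VanCyc.jA R f Ω)).obj (EtCoh.const X (ZMod N))) n),
        VanCyc.galH f σ (EtCoh.const X (ZMod N)) n a - a ∈ AddSubgroup.closure (Set.range δ) := by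
  refine Formal.exists_classes_of_sheafDual f n N hN A
    (fun i => (hA i).some.toAddMonoidHom.comp (resM f (g i) (EtCoh.const X (ZMod N)) n)) h0 ?_ ?_
  · intro a ha σ _
    obtain ⟨b, rfl⟩ := hK a fun i => (hA i).some.injective ((ha i).trans (map_zero _).symm)
    have h1 := Formal.galH_eq f σ (EtCoh.const X (ZMod N)) n (hp (VanCyc.jA R f Ω) (EtCoh.const X (ZMod N)) n b)
    exact h1.trans (hpVia_hp (VanCyc.galGeom f σ) (VanCyc.jA R f Ω) (VanCyc.jA R f Ω) (VanCyc.galGeom_jA f σ)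
      (EtCoh.const X (ZMod N)) n b)
  · intro σ _ i
    obtain ⟨ε, h1, h2, h3⟩ := hε σ i
    refine ⟨ε, h1, h2, fun a => ?_⟩
    have h4 := resM_galH f (g i) (fun h => inferInstance) σ (EtCoh.const X (ZMod N)) n a
    change (hA i).some (resM f (g i) (EtCoh.const X (ZMod N)) n
      (VanCyc.galH f σ (EtCoh.const X (ZMod N)) n a)) = ε • (hA i).some (resM f (g i) (EtCoh.const X (ZMod N)) n a)
    rw [h4, h3, map_zsmul]

end Groth.Agent.Vancyc.H700.AsmPos
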