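import Groth.Agent.Vancyc.H700.AsmPos

/-!
# Picard–Lefschetz in structural form: trivial action in degree `2n` from the local inputs
-/

set_option autoImplicit false
universe u v w

open CategoryTheory CategoryTheory.Limits CategoryTheory.Abelian AlgebraicGeometry Opposite
open scoped Groth.Agent.Etcore.EtInst
open Groth.Agent.Sga4h.BidGlobDual Groth.Agent.Sga4h.BidGlobPkg Groth.Agent.Sga4B.LMLS
open Groth.Agent.Etcore.EtInst Groth.Agent.Etcore.HpullCalc
open Groth.Agent.Vancyc.H681.Restr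

namespace Groth.Agent.Vancyc.H700.AsmTop

variable {R K Ω : Type u} [CommRing R] [Field K] [Algebra R K] [Field Ω] [Algebra K Ω]
  [Algebra R Ω] [IsScalarTower R K Ω] {X : Scheme.{u}} (f : X ⟶ Spec (CommRingCat.of R))

/-- The Galois action is trivial in a degree in which the local cohomology groups vanish. -/
theorem galH_eq_id (F : EtCoh.Ab X) (m : ℕ) [PreservesFiniteLimits (EtCoh.pull (VanCyc.jA R f Ω))]
    {ι : Type v} (P : ι → Scheme.{u}) (g : ∀ i, P i ⟶ X)
    (hK : ∀ a : HH (VanCyc.fib R f Ω) ((EtCoh.pull (VanCyc.jA R f Ω)).obj F) m,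
      (∀ i, resM f (g i) F m a = 0) →
        ∃ b : HH X F m, hp (VanCyc.jA R f Ω) F m b = a)
    (hV : ∀ i, Subsingleton (HH (VanCyc.fib R (g i ≫ f) Ω)
      ((EtCoh.pull (VanCyc.jA R (g i ≫ f) Ω ≫ g i)).obj F) m))
    (σ : Ω ≃ₐ[K] Ω) [PreservesFiniteLimits (EtCoh.pull (VanCyc.galGeom f σ))] :
    VanCyc.galH f σ F m = AddMonoidHom.id _ := by
  ext a
  obtain ⟨b, rfl⟩ := hK a fun i => by
    have := hV i
    exact Subsingleton.elim _ _
  have h1 := Formal.galH_eq f σ F m (hp (VanCyc.jA R f Ω) F m b)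
  exact h1.trans (hpVia_hp (VanCyc.galGeom f σ) (VanCyc.jA R f Ω) (VanCyc.jA R f Ω) (VanCyc.galGeom_jA f σ)
      F m b)

end Groth.Agent.Vancyc.H700.AsmTop
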