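import Mathlib

/-!
# Picard–Lefschetz in dimension `0`: the combinatorial part
-/

set_option autoImplicit false

universe u v

namespace Groth.Agent.Vancyc.H700.Comb0

variable {Y : Type u} {T : Type v} [Finite Y] (ρ : Y → T)

/-- Two different points of a fibre with at most two elements exhaust it. -/
theorem eq_or_eq {x : T} (h2 : Nat.card {y // ρ y = x} ≤ 2) {y₁ y₂ y : Y} (hne : y₁ ≠ y₂) (h₁ : ρ y₁ = x)
    (h₂ : ρ y₂ = x) (h : ρ y = x) : y = y₁ ∨ y = y₂ := by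
  classical
  by_contra hc
  rw [not_or] at hc
  have h3 : Function.Injective (![⟨y₁, h₁⟩, ⟨y₂, h₂⟩, ⟨y, h⟩] : Fin 3 → {y // ρ y = x}) := by
    intro i j hij
    fin_cases i <;> fin_cases j <;> simp_all [Subtype.ext_iff]
  have h4 := Nat.card_le_card_of_injective _ h3
  rw [Nat.card_fin] at h4
  omega

/-- In a fibre with at most one element there is only one point. -/
theorem eq_of_card_le_one {x : T} (h1 : Nat.card {y // ρ y = x} ≤ 1) {y₁ y₂ : Y} (h₁ : ρ y₁ = x)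
    (h₂ : ρ y₂ = x) : y₁ = y₂ := by
  have h : Subsingleton {y // ρ y = x} := (Finite.card_le_one_iff_subsingleton).1 h1
  exact congrArg Subtype.val (Subsingleton.elim (⟨y₁, h₁⟩ : {y // ρ y = x}) ⟨y₂, h₂⟩)

/-- The combinatorial form of the Picard–Lefschetz theorem in dimension `0`. -/
theorem exists_classes (S : Finset T) (h2 : ∀ x, Nat.card {y // ρ y = x} ≤ 2)
    (h1 : ∀ x, x ∉ S → Nat.card {y // ρ y = x} ≤ 1) (N : ℕ) :
    ∃ δ : ↥S → (Y → ZMod N), ∀ g : Y → Y, Function.Injective g → (∀ y, ρ (g y) = ρ y) →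
      (∀ x, (δ x) ∘ g = δ x ∨ (δ x) ∘ g = - δ x) ∧
      ∀ a : Y → ZMod N, ∃ c : ↥S → ℤ, a ∘ g - a = ∑ x, c x • δ x := by
  classical
  -- the classes
  let D : T → Prop := fun x => ∃ p : Y × Y, p.1 ≠ p.2 ∧ ρ p.1 = x ∧ ρ p.2 = x
  have hδ : ∀ x : T, ∃ δ : Y → ZMod N, (¬ D x → δ = 0) ∧ (D x → ∃ y₁ y₂, y₁ ≠ y₂ ∧ ρ y₁ = x ∧ ρ y₂ = x ∧
      δ y₁ = 1 ∧ δ y₂ = -1) ∧ ∀ y, ρ y ≠ x → δ y = 0 := by
    intro x
    by_cases hx : D x
    · obtain ⟨⟨y₁, y₂⟩, hne, e₁, e₂⟩ := hx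
      dsimp only at hne e₁ e₂
      refine ⟨Pi.single y₁ 1 - Pi.single y₂ 1, fun h => absurd ⟨(y₁, y₂), hne, e₁, e₂⟩ h,
        fun _ => ⟨y₁, y₂, hne, e₁, e₂, ?_, ?_⟩, fun y hy => ?_⟩
      · simp [hne]
      · simp [hne.symm]
      · have n1 : y ≠ y₁ := fun h => hy (h ▸ e₁)
        have n2 : y ≠ y₂ := fun h => hy (h ▸ e₂)
        simp [n1, n2]
    · exact ⟨0, fun _ => rfl, fun h => absurd h hx, fun _ _ => rfl⟩
  choose δ hδ0 hδ1 hδ2 using hδ
  refine ⟨fun x => δ x.1, fun g hg hρ => ⟨fun x => ?_, fun a => ?_⟩⟩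
  · change (δ x.1) ∘ g = δ x.1 ∨ (δ x.1) ∘ g = - δ x.1
    by_cases hx : D x.1
    · obtain ⟨y₁, y₂, hne, e₁, e₂, v₁, v₂⟩ := hδ1 x.1 hx
      have k : ∀ y, ρ y = x.1 → y = y₁ ∨ y = y₂ := fun y hy => eq_or_eq ρ (h2 x.1) hne e₁ e₂ hy
      rcases k (g y₁) ((hρ y₁).trans e₁) with g₁ | g₁ <;> rcases k (g y₂) ((hρ y₂).trans e₂) with g₂ | g₂
      · exact absurd (hg (g₁.trans g₂.symm)) hne
      · left
        funext y
        by_cases hy : ρ y = x.1
        · rcases k y hy with rfl | rfl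
          · simp [g₁]
          · simp [g₂]
        · rw [Function.comp_apply, hδ2 _ _ hy, hδ2 _ _ (by rw [hρ]; exact hy)]
      · right
        funext y
        by_cases hy : ρ y = x.1
        · rcases k y hy with rfl | rfl
          · simp [g₁, v₁, v₂]
          · simp [g₂, v₁, v₂]
        · rw [Function.comp_apply, Pi.neg_apply, hδ2 _ _ hy, hδ2 _ _ (by rw [hρ]; exact hy), neg_zero]
      · exact absurd (hg (g₁.trans g₂.symm)) hne
    · left
      rw [hδ0 _ hx]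
      rfl
  · have hc : ∀ x : T, ∃ c : ℤ, ∀ y, ρ y = x → (a ∘ g - a) y = c • δ x y := by
      intro x
      by_cases hx : D x
      · obtain ⟨y₁, y₂, hne, e₁, e₂, v₁, v₂⟩ := hδ1 x hx
        have k : ∀ y, ρ y = x → y = y₁ ∨ y = y₂ := fun y hy => eq_or_eq ρ (h2 x) hne e₁ e₂ hy
        obtain ⟨c, hc⟩ := ZMod.intCast_surjective ((a ∘ g - a) y₁)
        refine ⟨c, fun y hy => ?_⟩
        rcases k (g y₁) ((hρ y₁).trans e₁) with g₁ | g₁ <;> rcases k (g y₂) ((hρ y₂).trans e₂) with g₂ | g₂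
        · exact absurd (hg (g₁.trans g₂.symm)) hne
        · rcases k y hy with rfl | rfl
          · rw [v₁, zsmul_eq_mul, mul_one, hc]
          · rw [v₂, zsmul_eq_mul, hc]
            simp [g₁, g₂]
        · rcases k y hy with rfl | rfl
          · rw [v₁, zsmul_eq_mul, mul_one, hc]
          · rw [v₂, zsmul_eq_mul, hc]
            simp [g₁, g₂]
        · exact absurd (hg (g₁.trans g₂.symm)) hne
      · refine ⟨0, fun y hy => ?_⟩
        have h3 : g y = y := by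
          by_contra hne
          exact hx ⟨(g y, y), hne, (hρ y).trans hy, hy⟩
        rw [zero_smul, Pi.sub_apply, Function.comp_apply, h3, sub_self]
    choose c hc using hc
    refine ⟨fun x => c x.1, funext fun y => ?_⟩
    rw [Finset.sum_apply]
    by_cases hy : ρ y ∈ S
    · rw [Finset.sum_eq_single (⟨ρ y, hy⟩ : ↥S)]
      · exact hc (ρ y) y rfl
      · intro x _ hx
        change c x.1 • δ x.1 y = 0
        rw [hδ2 x.1 y (fun h => hx (Subtype.ext h.symm)), smul_zero]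
      · intro h
        exact absurd (Finset.mem_univ _) h
    · have h3 : g y = y := eq_of_card_le_one ρ (h1 (ρ y) hy) (hρ y) rfl
      rw [Pi.sub_apply, Function.comp_apply, h3, sub_self, Finset.sum_eq_zero]
      intro x _
      change c x.1 • δ x.1 y = 0
      rw [hδ2 x.1 y (fun h => hy (h ▸ x.2)), smul_zero]

end Groth.Agent.Vancyc.H700.Comb0
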