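import Groth.Agent.Sga4B.ZModInj

/-!
# Linear algebra over `ℤ/n`: functionals vanishing on an intersection of kernels
-/

set_option autoImplicit false

universe u v

namespace Groth.Agent.Vancyc.H700.LinAlg

open Groth.Agent.Sga4B

/-- A functional with values in `ℤ/n` vanishing on the intersection of the kernels of finitely many functionals is
a combination of them. -/
theorem exists_eq_sum {n : ℕ} (hn : 0 < n) {H : Type u} [AddCommGroup H] {ι : Type v} [Fintype ι]
    (e : ι → H →+ ZMod n) (μ : H →+ ZMod n) (h : ∀ b, (∀ x, e x b = 0) → μ b = 0) :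
    ∃ c : ι → ℤ, μ = ∑ x, c x • e x := by
  classical
  let E : H →+ (ι → ZMod n) := AddMonoidHom.mk' (fun b x => e x b) (fun a b => by
    funext x
    exact map_add (e x) a b)
  have hker : E.ker ≤ μ.ker := fun b hb => h b fun x => congrFun hb x
  let μ' : E.range →+ ZMod n := (QuotientAddGroup.lift E.ker μ hker).comp
    (QuotientAddGroup.quotientKerEquivRange E).symm.toAddMonoidHom
  have hμ' : ∀ b, μ' ⟨E b, b, rfl⟩ = μ b := by
    intro b
    have h2 : (QuotientAddGroup.quotientKerEquivRange E).symm ⟨E b, b, rfl⟩ =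
        (QuotientAddGroup.mk b : H ⧸ E.ker) := by
      rw [AddEquiv.symm_apply_eq]
      rfl
    change (QuotientAddGroup.lift E.ker μ hker) ((QuotientAddGroup.quotientKerEquivRange E).symm ⟨E b, b, rfl⟩) = μ b
    rw [h2]
    rfl
  obtain ⟨M, hM⟩ := ZModInj.exists_extend n hn (G := ι → ZMod n) (fun g => by
    funext x
    simp) E.range μ'
  have hM1 : ∀ (x : ι) (r : ZMod n), M (Pi.single x r) = r * M (Pi.single x 1) := by
    intro x r
    obtain ⟨m, rfl⟩ := ZMod.intCast_surjective r
    have h3 : (Pi.single x (m : ZMod n) : ι → ZMod n) = m • Pi.single x (1 : ZMod n) := by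
      funext y
      by_cases hy : y = x
      · subst hy
        simp
      · simp [Pi.single_eq_of_ne hy]
    rw [h3, map_zsmul, zsmul_eq_mul]
  choose c hc using fun x => ZMod.intCast_surjective (M (Pi.single x (1 : ZMod n)))
  refine ⟨c, ?_⟩
  ext b
  have h4 : E b = ∑ x, Pi.single x (e x b) := by
    funext y
    rw [Finset.sum_apply, Finset.sum_eq_single y]
    · simp [E]
    · intro x _ hx
      simp [Pi.single_eq_of_ne hx.symm]
    · simp
  have h5 : μ b = M (E b) := by rw [← hμ' b, ← hM]
  rw [h5, h4, map_sum, AddMonoidHom.finsetSum_apply]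
  refine Finset.sum_congr rfl fun x _ => ?_
  rw [hM1, AddMonoidHom.smul_apply, zsmul_eq_mul, hc, mul_comm]

/-- **The formal part of the Picard–Lefschetz theorem**: `H` a group with a perfect pairing
`P : H ≃ Hom(H, ℤ/n)`, `e x` finitely many functionals with dual classes `δ x`; if an automorphism `s` preserving the
pairing acts on `e x` by a sign and fixes the intersection of the kernels, then it acts on `δ x` by that sign, and
`s a - a` lies in the span of the `δ x`. -/
theorem exists_dual_classes {n : ℕ} (hn : 0 < n) {H : Type u} [AddCommGroup H] {ι : Type v} [Fintype ι]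
    (P : H →+ (H →+ ZMod n)) (hP : Function.Bijective P) (e : ι → H →+ ZMod n) :
    ∃ δ : ι → H, ∀ (s : H →+ H) (_ : Function.Surjective s) (_ : ∀ a b, P (s b) (s a) = P b a),
      (∀ (x : ι) (ε : ℤ), (ε = 1 ∨ ε = -1) → (∀ a, e x (s a) = ε • e x a) → s (δ x) = ε • δ x) ∧
      ((∀ a, (∀ x, e x a = 0) → s a = a) → ∀ a, s a - a ∈ AddSubgroup.closure (Set.range δ)) := by
  choose δ hδ using fun x => hP.2 (e x)
  refine ⟨δ, fun s hs hsP => ⟨fun x ε hε hx => ?_, fun h0 a => ?_⟩⟩
  · apply hP.1
    ext a
    obtain ⟨a, rfl⟩ := hs a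
    have hεε : ε * ε = 1 := by rcases hε with rfl | rfl <;> rfl
    rw [hsP, map_zsmul, AddMonoidHom.smul_apply, hδ, hx, smul_smul, hεε, one_smul]
  · obtain ⟨c, hc⟩ := exists_eq_sum hn e (P (s a - a)) (fun b hb => by
      have h1 := h0 b hb
      have h2 := hsP b a
      rw [h1] at h2
      rw [map_sub, AddMonoidHom.sub_apply, h2, sub_self])
    have h3 : s a - a = ∑ x, c x • δ x := by
      apply hP.1
      rw [hc, map_sum]
      refine Finset.sum_congr rfl fun x _ => ?_
      rw [map_zsmul, hδ]
    rw [h3]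
    refine AddSubgroup.sum_mem _ fun x _ => AddSubgroup.zsmul_mem _ ?_ _
    exact AddSubgroup.subset_closure (Set.mem_range_self x)

end Groth.Agent.Vancyc.H700.LinAlg
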