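import Groth.Agent.Vancyc.H700.PairB
import Groth.Agent.Vancyc.H700.LinAlg
import Groth.Agent.Vancyc.H684.GalCont
import Groth.Agent.Etcore.HpullViaEq

/-!
# The formal part of Picard–Lefschetz: dual classes from Poincaré duality
-/

set_option autoImplicit false
universe u v

open CategoryTheory CategoryTheory.Limits CategoryTheory.Abelian AlgebraicGeometry Opposite
open Groth.Agent.Sga4h.BidGlobDual Groth.Agent.Sga4h.BidGlobPkg Groth.Agent.Sga4B.LMLS
open Groth.Agent.Etcore.EtInst Groth.Agent.Etcore.HpullCalc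

namespace Groth.Agent.Vancyc.H700.Formal

variable {R K Ω : Type u} [CommRing R] [Field K] [Algebra R K] [Field Ω] [Algebra K Ω]
  [Algebra R Ω] [IsScalarTower R K Ω] {X : Scheme.{u}} (f : X ⟶ Spec (CommRingCat.of R))

/-- `galH` is the relative pull-back `hpVia`. -/
theorem galH_eq (σ : Ω ≃ₐ[K] Ω) [PreservesFiniteLimits (EtCoh.pull (VanCyc.galGeom f σ))] (F : EtCoh.Ab X) (q : ℕ)
    (a : EtCoh.H (VanCyc.fib R f Ω) ((EtCoh.pull (VanCyc.jA R f Ω)).obj F) q) :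
    VanCyc.galH f σ F q a = hpVia (VanCyc.galGeom f σ) (VanCyc.jA R f Ω) (VanCyc.jA R f Ω)
      (VanCyc.galGeom_jA f σ) F q a :=
  HpullVia_apply_eq_hpVia _ _ _ _ F q a

/-- The Galois action is by bijections. -/
theorem galH_surjective (σ : Ω ≃ₐ[K] Ω) [PreservesFiniteLimits (EtCoh.pull (VanCyc.galGeom f σ))] (F : EtCoh.Ab X)
    (q : ℕ) : Function.Surjective (VanCyc.galH f σ F q) := by
  intro a
  have i1 : PreservesFiniteLimits (EtCoh.pull (VanCyc.galGeom f σ⁻¹)) := S0101.result _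
  have i2 : PreservesFiniteLimits (EtCoh.pull (VanCyc.galGeom f (σ * σ⁻¹))) := S0101.result _
  have i3 : PreservesFiniteLimits (EtCoh.pull (VanCyc.galGeom f (1 : Ω ≃ₐ[K] Ω))) := S0101.result _
  refine ⟨VanCyc.galH f σ⁻¹ F q a, ?_⟩
  rw [← H684.GalCont.galH_mul f σ σ⁻¹ F q a]
  have key : ∀ (τ : Ω ≃ₐ[K] Ω) [PreservesFiniteLimits (EtCoh.pull (VanCyc.galGeom f τ))], τ = 1 →
      VanCyc.galH f τ F q a = a := by
    intro τ _ h
    subst h
    rw [H684.GalCont.galH_one]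
    rfl
  exact key _ (mul_inv_cancel σ)

/-- **Dual classes**. If `X_Ω` satisfies Poincaré duality (`SheafDual`) with trace in degree `2n`, `Gal(Ω/K)` acts
trivially on `H^{2n}(X_Ω, ℤ/N)`, and `e x : H^n(X_Ω, ℤ/N) → ℤ/N` are finitely many functionals which are eigenvectors
with eigenvalues `±1` and such that `⋂ ker (e x)` is fixed by the Galois group, then the classes `δ x` dual to
the `e x` satisfy the conclusion of the Picard–Lefschetz theorem in structural form. -/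
theorem exists_classes_of_sheafDual (n N : ℕ) (hN : 0 < N) [PreservesFiniteLimits (EtCoh.pull (VanCyc.jA R f Ω))]
    (A : ∃ tr : Ext.{u + 1} (cM (Lam.{u} N) (VanCyc.fib R f Ω)) (cM (Lam.{u} N) (VanCyc.fib R f Ω)) (2 * n) →+ ZMod N,
      SheafDual N tr) {ι : Type v} [Finite ι]
    (e : ι → EtCoh.H (VanCyc.fib R f Ω) ((EtCoh.pull (VanCyc.jA R f Ω)).obj (EtCoh.const X (ZMod N))) n →+ ZMod N)
    (h0 : ∀ (σ : Ω ≃ₐ[K] Ω) [PreservesFiniteLimits (EtCoh.pull (VanCyc.galGeom f σ))],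
      VanCyc.galH f σ (EtCoh.const X (ZMod N)) (2 * n) = AddMonoidHom.id _)
    (h1 : ∀ a, (∀ x, e x a = 0) → ∀ (σ : Ω ≃ₐ[K] Ω) [PreservesFiniteLimits (EtCoh.pull (VanCyc.galGeom f σ))],
      VanCyc.galH f σ (EtCoh.const X (ZMod N)) n a = a)
    (h2 : ∀ (σ : Ω ≃ₐ[K] Ω) [PreservesFiniteLimits (EtCoh.pull (VanCyc.galGeom f σ))] (x : ι),
      ∃ ε : ℤ, (ε = 1 ∨ ε = -1) ∧ (Odd n → ε = 1) ∧
        ∀ a, e x (VanCyc.galH f σ (EtCoh.const X (ZMod N)) n a) = ε • e x a) :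
    ∃ δ : ι → EtCoh.H (VanCyc.fib R f Ω) ((EtCoh.pull (VanCyc.jA R f Ω)).obj (EtCoh.const X (ZMod N))) n,
      (∀ (σ : Ω ≃ₐ[K] Ω) [PreservesFiniteLimits (EtCoh.pull (VanCyc.galGeom f σ))] (x : ι),
          (VanCyc.galH f σ (EtCoh.const X (ZMod N)) n (δ x) = δ x ∨
            VanCyc.galH f σ (EtCoh.const X (ZMod N)) n (δ x) = -δ x) ∧
          (Odd n → VanCyc.galH f σ (EtCoh.const X (ZMod N)) n (δ x) = δ x)) ∧
      ∀ (σ : Ω ≃ₐ[K] Ω) [PreservesFiniteLimits (EtCoh.pull (VanCyc.galGeom f σ))]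
        (a : EtCoh.H (VanCyc.fib R f Ω) ((EtCoh.pull (VanCyc.jA R f Ω)).obj (EtCoh.const X (ZMod N))) n),
        VanCyc.galH f σ (EtCoh.const X (ZMod N)) n a - a ∈ AddSubgroup.closure (Set.range δ) := by
  have := Fintype.ofFinite ι
  obtain ⟨P, hP, hPs⟩ := PairB.exists_pairing (VanCyc.jA R f Ω) (n := N) (N := 2 * n) (i := n) (q := n) (by omega) A
  obtain ⟨δ, hδ⟩ := LinAlg.exists_dual_classes hN P hP e
  have key : ∀ (σ : Ω ≃ₐ[K] Ω) [PreservesFiniteLimits (EtCoh.pull (VanCyc.galGeom f σ))], _ :=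
    fun σ _ => hδ (VanCyc.galH f σ (EtCoh.const X (ZMod N)) n) (galH_surjective f σ _ n) (fun a b =>
      hPs (VanCyc.galGeom f σ) (VanCyc.galGeom_jA f σ) (fun z => by
        have h3 := galH_eq f σ (EtCoh.const X (ZMod N)) (2 * n) z
        rw [h0] at h3
        exact h3.symm) a b)
  refine ⟨δ, fun σ _ x => ?_, fun σ _ a => (key σ).2 (fun b hb => h1 b hb σ) a⟩
  obtain ⟨ε, hε, hodd, hx⟩ := h2 σ x
  have h4 := (key σ).1 x ε hε hx
  refine ⟨?_, fun hn => ?_⟩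
  · rcases hε with rfl | rfl
    · exact Or.inl (h4.trans (one_smul _ _))
    · exact Or.inr (h4.trans (neg_one_zsmul _))
  · rw [h4, hodd hn, one_smul]

end Groth.Agent.Vancyc.H700.Formal
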