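import Groth.Agent.Vancyc.H695.ECgal
import Groth.Agent.Vancyc.H681.Restr

/-!
# The Galois action on the cohomology of the Milnor fibre from the action on the stalk of nearby cycles
-/

set_option autoImplicit false
universe u

open CategoryTheory CategoryTheory.Limits CategoryTheory.Abelian AlgebraicGeometry Opposite
open scoped Groth.Agent.Etcore.EtInst
open Groth.Agent.Etcore.EtInst Groth.Agent.Etcore.HpullCalc Groth.Agent.Etcore.HpVia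
open Groth.Agent Groth.Agent.EtpbcB Groth.Agent.EtpbcB.StrictLoc Groth.Agent.Etcore.PullCoh

namespace Groth.Agent.Vancyc.H700.LocGal

open Groth.Agent.Vancyc.H695.ECgal Groth.Agent.Vancyc.H695

variable {R : Type u} [CommRing R] [IsLocalRing R] {K : Type u} [Field K] [Algebra R K]
  {Ω : Type u} [Field Ω] [Algebra K Ω] [Algebra R Ω] [IsScalarTower R K Ω]
  {X : Scheme.{u}} (f : X ⟶ Spec (CommRingCat.of R))

/-- Abstract transport of a scalar action. -/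
theorem smul_of_equiv {A : AddCommGrpCat.{u + 1}} (φ : A ⟶ A) {B : Type*} [AddCommGroup B]
    (e : A ≃+ B) (μ : B →+ B) (h : ∀ z : A, e (φ z) = μ (e z)) (ε : ℤ) (hφ : φ = ε • 𝟙 A) (y : B) :
    μ y = ε • y := by
  obtain ⟨z, rfl⟩ := e.surjective y
  rw [← h, hφ, ← map_zsmul]
  rfl

/-- If `σ` acts on the stalk of nearby cycles as an integer, it acts on the cohomology of the Milnor fibre by the same
integer. -/
theorem hpVia_eq_smul [IsNoetherianRing R] [IsFractionRing R K] [Algebra.IsSeparable K Ω]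
    {Ω' : Type u} [Field Ω'] [IsSepClosed Ω'] (ξ : Spec (CommRingCat.of Ω') ⟶ VanCyc.spFib R f)
    (F : EtCoh.Ab X) (n : ℕ)
    [i : ∀ σ : Ω ≃ₐ[K] Ω, PreservesFiniteLimits (EtCoh.pull (VanCyc.galGeom (toBase (ξ ≫ VanCyc.icl R f) ≫ f) σ))]
    {t : VanCyc.fib R (toBase (ξ ≫ VanCyc.icl R f) ≫ f) Ω ⟶ X}
    (ht : VanCyc.jA R (toBase (ξ ≫ VanCyc.icl R f) ≫ f) Ω ≫ toBase (ξ ≫ VanCyc.icl R f) = t)
    (wt : ∀ σ : Ω ≃ₐ[K] Ω, VanCyc.galGeom (toBase (ξ ≫ VanCyc.icl R f) ≫ f) σ ≫ t = t)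
    (σ : Ω ≃ₐ[K] Ω) (ε : ℤ) (h : (EtCoh.stalk ξ).map (VanCyc.psiGal f σ n F) = ε • 𝟙 _)
    (μ : HH (VanCyc.fib R (toBase (ξ ≫ VanCyc.icl R f) ≫ f) Ω) ((EtCoh.pull t).obj F) n →+
      HH (VanCyc.fib R (toBase (ξ ≫ VanCyc.icl R f) ≫ f) Ω) ((EtCoh.pull t).obj F) n)
    (hμ : μ = hpVia (VanCyc.galGeom (toBase (ξ ≫ VanCyc.icl R f) ≫ f) σ) t t (wt σ) F n)
    (y : HH (VanCyc.fib R (toBase (ξ ≫ VanCyc.icl R f) ≫ f) Ω) ((EtCoh.pull t).obj F) n) : μ y = ε • y := by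
  obtain ⟨e, he⟩ := ECpsi.exists_psi_equiv f ξ
    (isPullback_fibMap (Ω := Ω) f (toBase (ξ ≫ VanCyc.icl R f))) t
    ((fibMap_jA f (toBase (ξ ≫ VanCyc.icl R f))).trans ht)
    (fun σ : Ω ≃ₐ[K] Ω => VanCyc.galGeom (toBase (ξ ≫ VanCyc.icl R f) ≫ f) σ)
    (fun σ => galGeom_fibMap f _ σ) (fun σ => VanCyc.galGeom_jA _ σ) wt n F
  subst hμ
  exact smul_of_equiv _ e _ (he σ) ε h y

end Groth.Agent.Vancyc.H700.LocGal
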