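import Groth.Agent.Vancyc.H695.ECgal
import Groth.Agent.Vancyc.H681.Restr
import Groth.Agent.Etcore.StalkLimN

/-!
# The Milnor fibre at a geometric point: value and Galois action

`ξ` a geometric point of the special fibre, `g = toBase (ξ ≫ icl) : Spec O^sh ⟶ X`.
* `nonempty_equiv`: `H^n((Spec O^sh)_Ω, F) ≃ Ψ^n(jbar^* F)_ξ`;
* `galM_eq_smul`: if `σ` acts on `Ψ^n_T(F)_ξ` by an integer `ε`, then `galM f g σ F n = ε`.
-/

set_option autoImplicit false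
universe u

open CategoryTheory CategoryTheory.Limits CategoryTheory.Abelian AlgebraicGeometry Opposite
open scoped Groth.Agent.Etcore.EtInst
open Groth.Agent.Etcore.EtInst Groth.Agent.Etcore.HpullCalc Groth.Agent.Etcore.HpVia
open Groth.Agent Groth.Agent.EtpbcB Groth.Agent.EtpbcB.StrictLoc Groth.Agent.Etcore.PullCoh

namespace Groth.Agent.Vancyc.H700.LocVal

open Groth.Agent.Vancyc.H695.ECgal Groth.Agent.Vancyc.H695

variable {R : Type u} [CommRing R] [IsLocalRing R] {Ω : Type u} [Field Ω] [Algebra R Ω]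
  {X : Scheme.{u}} (f : X ⟶ Spec (CommRingCat.of R))

/-- The value of the Milnor fibre. -/
theorem nonempty_equiv {Ω' : Type u} [Field Ω'] [IsSepClosed Ω'] (ξ : Spec (CommRingCat.of Ω') ⟶ VanCyc.spFib R f)
    (F : EtCoh.Ab X) (n : ℕ) {A : AddCommGrpCat.{u + 1}}
    (e : Nonempty ((EtCoh.stalk ξ).obj (VanCyc.psi R Ω f n ((EtCoh.pull (VanCyc.jA R f Ω)).obj F)) ≅ A)) :
    Nonempty (HH (VanCyc.fib R (toBase (ξ ≫ VanCyc.icl R f) ≫ f) Ω)
      ((EtCoh.pull (VanCyc.jA R (toBase (ξ ≫ VanCyc.icl R f) ≫ f) Ω ≫ toBase (ξ ≫ VanCyc.icl R f))).obj F) n ≃+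
        A) := by
  obtain ⟨e⟩ := e
  have hj : IsAffineHom (VanCyc.jA R f Ω) :=
    MorphismProperty.of_isPullback (IsPullback.of_hasPullback f (VanCyc.toS R Ω)).flip inferInstance
  obtain ⟨e1⟩ := Etcore.StalkLimN.nonempty_stalk_Rpush_iso (VanCyc.jA R f Ω) (ξ ≫ VanCyc.icl R f)
    (isPullback_fibMap (Ω := Ω) f (toBase (ξ ≫ VanCyc.icl R f))) ((EtCoh.pull (VanCyc.jA R f Ω)).obj F) n
  let E := Etbase.StalkPull.stalkPullIso (VanCyc.icl R f) ξ
  let e2 := e1.symm ≪≫ (E.app ((EtCoh.Rpush (VanCyc.jA R f Ω) n).obj ((EtCoh.pull (VanCyc.jA R f Ω)).obj F))) ≪≫ e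
  let e3 := HHcongr (asIso (th (fibMap f (toBase (ξ ≫ VanCyc.icl R f)) Ω) (VanCyc.jA R f Ω)
    (VanCyc.jA R (toBase (ξ ≫ VanCyc.icl R f) ≫ f) Ω ≫ toBase (ξ ≫ VanCyc.icl R f))
    (fibMap_jA f (toBase (ξ ≫ VanCyc.icl R f))) F)) n
  exact ⟨e3.symm.trans e2.addCommGroupIsoToAddEquiv⟩

end Groth.Agent.Vancyc.H700.LocVal
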