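import Groth.Agent.Vancyc.H700.PtsZN
import Groth.Agent.Vancyc.H700.Comb0
import Groth.Agent.Vancyc.H684.GalCont
import Groth.Agent.Etcore.HpullViaEq

/-!
# The Picard–Lefschetz theorem in dimension `0`
-/

set_option autoImplicit false
universe u v

open CategoryTheory CategoryTheory.Limits CategoryTheory.Abelian AlgebraicGeometry Opposite
open scoped Groth.Agent.Etcore.EtInst
open Groth.Agent.Etcore.EtInst Groth.Agent.Etcore.HpullCalc

namespace Groth.Agent.Vancyc.H700.Main0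

variable {R K Ω : Type u} [CommRing R] [Field K] [Algebra R K] [Field Ω] [Algebra K Ω]
  [Algebra R Ω] [IsScalarTower R K Ω] {X : Scheme.{u}} (f : X ⟶ Spec (CommRingCat.of R))

/-- `galGeom σ` is injective on points. -/
theorem galGeom_injective (σ : Ω ≃ₐ[K] Ω) : Function.Injective (VanCyc.galGeom f σ) := by
  have h : VanCyc.galGeom f σ ≫ VanCyc.galGeom f σ⁻¹ = 𝟙 _ := by
    rw [← H684.GalCont.galGeom_mul, mul_inv_cancel, H684.GalCont.galGeom_one]
  intro a b hab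
  have h1 : ∀ c, VanCyc.galGeom f σ⁻¹ (VanCyc.galGeom f σ c) = c := fun c => by
    rw [← Scheme.Hom.comp_apply, h]
    rfl
  rw [← h1 a, hab, h1 b]

/-- **`H^0` of the geometric generic fibre** in dimension `0`: functions on its points, with the Galois action. -/
theorem exists_equiv [IsSepClosed Ω] [LocallyOfFiniteType f] [Finite ↥(VanCyc.fib R f Ω)] (N : ℕ) :
    ∃ E : EtCoh.H (VanCyc.fib R f Ω) ((EtCoh.pull (VanCyc.jA R f Ω)).obj (EtCoh.const X (ZMod N))) 0 ≃+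
        (↥(VanCyc.fib R f Ω) → ZMod N),
      ∀ (σ : Ω ≃ₐ[K] Ω) [PreservesFiniteLimits (EtCoh.pull (VanCyc.galGeom f σ))] a (y : ↥(VanCyc.fib R f Ω)),
        E (VanCyc.galH f σ (EtCoh.const X (ZMod N)) 0 a) y = E a (VanCyc.galGeom f σ y) := by
  have h1 : LocallyOfFiniteType (VanCyc.fibStr R f Ω) :=
    inferInstanceAs (LocallyOfFiniteType (pullback.snd f _))
  have h2 : JacobsonSpace ↥(VanCyc.fib R f Ω) := LocallyOfFiniteType.jacobsonSpace (VanCyc.fibStr R f Ω)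
  have h3 : DiscreteTopology ↥(VanCyc.fib R f Ω) := inferInstance
  obtain ⟨E, hE⟩ := PtsZN.exists_equiv_field (VanCyc.fibStr R f Ω) (VanCyc.jA R f Ω)
    (fun y => isClosed_discrete _) N
  refine ⟨E, fun σ _ a y => ?_⟩
  have h4 := hE (VanCyc.galGeom f σ) (VanCyc.galGeom_jA f σ) a y
  have h5 := HpullVia_apply_eq_hpVia (VanCyc.galGeom f σ) (VanCyc.jA R f Ω) (VanCyc.jA R f Ω)
      (VanCyc.galGeom_jA f σ) (EtCoh.const X (ZMod N)) 0 a
  exact (congrArg (fun b => E b y) h5).trans h4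

/-- **Picard–Lefschetz in dimension `0`** from the description of the fibres of `X_Ω → X_s`. -/
theorem main [IsLocalRing R] [IsSepClosed Ω] [LocallyOfFiniteType f] (Sing : Finset ↥(VanCyc.spFib R f))
    (hfin : Finite ↥(VanCyc.fib R f Ω)) (r : ↥X → ↥(VanCyc.spFib R f))
    (hr2 : ∀ x, Nat.card {y : ↥(VanCyc.fib R f Ω) // r ((VanCyc.jA R f Ω).base y) = x} ≤ 2)
    (hr1 : ∀ x, x ∉ Sing → Nat.card {y : ↥(VanCyc.fib R f Ω) // r ((VanCyc.jA R f Ω).base y) = x} ≤ 1)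
    (N : ℕ) :
    ∃ δ : ↥Sing → EtCoh.H (VanCyc.fib R f Ω) ((EtCoh.pull (VanCyc.jA R f Ω)).obj (EtCoh.const X (ZMod N))) 0,
      (∀ (σ : Ω ≃ₐ[K] Ω) [PreservesFiniteLimits (EtCoh.pull (VanCyc.galGeom f σ))] (x : ↥Sing),
          VanCyc.galH f σ (EtCoh.const X (ZMod N)) 0 (δ x) = δ x ∨
            VanCyc.galH f σ (EtCoh.const X (ZMod N)) 0 (δ x) = -δ x) ∧
      ∀ (σ : Ω ≃ₐ[K] Ω) [PreservesFiniteLimits (EtCoh.pull (VanCyc.galGeom f σ))]
        (a : EtCoh.H (VanCyc.fib R f Ω) ((EtCoh.pull (VanCyc.jA R f Ω)).obj (EtCoh.const X (ZMod N))) 0),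
        VanCyc.galH f σ (EtCoh.const X (ZMod N)) 0 a - a ∈ AddSubgroup.closure (Set.range δ) := by
  obtain ⟨E, hE⟩ := exists_equiv (K := K) (Ω := Ω) f N
  obtain ⟨δ, hδ⟩ := Comb0.exists_classes (fun y : ↥(VanCyc.fib R f Ω) => r ((VanCyc.jA R f Ω).base y)) Sing
    hr2 hr1 N
  have key : ∀ σ : Ω ≃ₐ[K] Ω, _ := fun σ => hδ (VanCyc.galGeom f σ) (galGeom_injective f σ) (fun y => by
    dsimp only
    congr 1
    change (VanCyc.galGeom f σ ≫ VanCyc.jA R f Ω) y = _
    rw [VanCyc.galGeom_jA])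
  have hE' : ∀ (σ : Ω ≃ₐ[K] Ω) [PreservesFiniteLimits (EtCoh.pull (VanCyc.galGeom f σ))] a,
      E (VanCyc.galH f σ (EtCoh.const X (ZMod N)) 0 a) = E a ∘ (VanCyc.galGeom f σ) := fun σ _ a =>
    funext fun y => hE σ a y
  refine ⟨fun x => E.symm (δ x), fun σ _ x => ?_, fun σ _ a => ?_⟩
  · rcases (key σ).1 x with h | h
    · left
      apply E.injective
      rw [hE', AddEquiv.apply_symm_apply, h]
    · right
      apply E.injective
      rw [hE', map_neg, AddEquiv.apply_symm_apply, h]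
  · obtain ⟨c, hc⟩ := (key σ).2 (E a)
    have h1 : VanCyc.galH f σ (EtCoh.const X (ZMod N)) 0 a - a = ∑ x, c x • E.symm (δ x) := by
      apply E.injective
      rw [map_sub, hE', hc, map_sum]
      refine Finset.sum_congr rfl fun x _ => ?_
      rw [map_zsmul, AddEquiv.apply_symm_apply]
    rw [h1]
    refine AddSubgroup.sum_mem _ fun x _ => AddSubgroup.zsmul_mem _ ?_ _
    exact AddSubgroup.subset_closure (Set.mem_range_self x)

end Groth.Agent.Vancyc.H700.Main0
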