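import Groth.Agent.Vancyc.H700.OddAct
import Groth.Agent.Vancyc.H679.PicLefHK

/-!
# `(σ - 1)(τ - 1) = 0` on `H^n(X_Ω)` for `n` odd, from the local statement `S4011`
-/

set_option autoImplicit false
universe u

open CategoryTheory CategoryTheory.Limits AlgebraicGeometry

namespace Groth.Agent.Vancyc.H700.OddRow

open Groth.Agent.Vancyc.H679.GoodSing

theorem main (R K Ω : Type u) [CommRing R] [IsDomain R] [IsDiscreteValuationRing R]
    (hR : EtCoh.IsStrictlyHenselianLocalRing R) [Field K] [Algebra R K] [IsFractionRing R K] [Field Ω] [Algebra K Ω]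
    [IsSepClosure K Ω] [Algebra R Ω] [IsScalarTower R K Ω]
    {X : Scheme.{u}} (f : X ⟶ Spec (CommRingCat.of R)) [IsProper f] [Flat f] (n : ℕ)
    (hη : SmoothOfRelativeDimension n (VanCyc.fibStr R f K))
    (Sing : Finset ↥(VanCyc.spFib R f)) (hSc : ∀ x ∈ Sing, IsClosed ({x} : Set ↥(VanCyc.spFib R f)))
    (U : (VanCyc.spFib R f).Opens) (hU : ∀ x : ↥(VanCyc.spFib R f), x ∉ Sing → x ∈ U)
    (hUs : SmoothOfRelativeDimension n (U.ι ≫ VanCyc.spStr R f))
    (N : ℕ) (hN : IsUnit (N : R)) [PreservesFiniteLimits (EtCoh.pull (VanCyc.jA R f Ω))]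
    (σ τ : Ω ≃ₐ[K] Ω) [PreservesFiniteLimits (EtCoh.pull (VanCyc.galGeom f σ))]
    [PreservesFiniteLimits (EtCoh.pull (VanCyc.galGeom f τ))]
    (hG : ∀ x ∈ Sing, ∀ (V : X.Opens), (VanCyc.icl R f).base x ∈ V →
      Smooth (pullback.snd (V.ι ≫ f) (VanCyc.toS R K)) →
      ∀ (Ω' : Type u) [Field Ω'] [IsSepClosed Ω'] (ξ : Spec (CommRingCat.of Ω') ⟶ VanCyc.spFib R f),
        ξ.base (IsLocalRing.closedPoint Ω') = x →
          (EtCoh.stalk ξ).map (VanCyc.psiGal f τ n (EtCoh.const X (ZMod N))) = 𝟙 _) :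
    (VanCyc.galH f σ (EtCoh.const X (ZMod N)) n - AddMonoidHom.id _).comp
      (VanCyc.galH f τ (EtCoh.const X (ZMod N)) n - AddMonoidHom.id _) = 0 := by
  have i2 : Algebra.IsSeparable K Ω := IsSepClosure.separable
  have hη' : Smooth (VanCyc.fibStr R f K) := SmoothOfRelativeDimension.smooth n _
  have hV := Vancyc.H678.SmoothW.smooth_top_generic R K f ⊤ hη'
  choose Ω' j1 j2 ξ hξ using fun x : ↥Sing => Etcore.Stalks.exists_geom x.1
  have hξ' : ∀ x : ↥Sing, (ξ x).base (IsLocalRing.closedPoint (Ω' x)) = x.1 := fun x =>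
    base_closedPoint (ξ x) x.1 (hξ x)
  exact OddAct.main f n (EtCoh.const X (ZMod N)) Ω' ξ
    (fun a ha => Vancyc.H679.PicLefHK.hK R K Ω hR f n Sing hSc U hU hUs N hN Ω' ξ hξ n a ha) σ τ
    (fun x => hG x.1 x.2 ⊤ trivial hV (Ω' x) (ξ x) (hξ' x))

end Groth.Agent.Vancyc.H700.OddRow
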