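import Groth.Agent.Vancyc.H700.PairH

/-!
# The invariant pairing on `H^*(Y, t⁻¹ ℤ/n)`
-/

set_option autoImplicit false
universe u

open CategoryTheory CategoryTheory.Limits CategoryTheory.Abelian AlgebraicGeometry Opposite
open scoped Groth.Agent.Etcore.EtInst Groth.Agent.Sga4B.PDInst
open Groth.Agent.Etcore.EtInst Groth.Agent.Etcore.HpullCalc Groth.Agent.Etcore.ExtMap
open Groth.Agent.Sga4h Groth.Agent.Sga4h.BidGlobDual Groth.Agent.Sga4h.BidGlobPkg
open Groth.Agent.Sga4B Groth.Agent.Sga4B.LMLS Groth.Agent.Etrest.ModAb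
open Groth.Agent.Vancyc.H700.YonedaEqui Groth.Agent.Vancyc.H700.PairH

namespace Groth.Agent.Vancyc.H700.PairB

variable {X Y : Scheme.{u}} (t : Y ⟶ X) (n : ℕ)

/-- The comparison as an isomorphism. -/
noncomputable def cE (m : ℕ) : Ext.{u + 1} (cM (Lam.{u} n) Y) (cM (Lam.{u} n) Y) m ≃+
    HH Y ((EtCoh.pull t).obj (EtCoh.const X (ZMod n))) m :=
  AddEquiv.ofBijective (cc t n m) (cc_bijective t n m)

theorem cE_apply (m : ℕ) (e : Ext.{u + 1} (cM (Lam.{u} n) Y) (cM (Lam.{u} n) Y) m) :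
    cE t n m e = cc t n m e := rfl

theorem cE_symm_hpVia (s : Y ⟶ Y) (w : s ≫ t = t) [PreservesFiniteLimits (EtCoh.pull s)]
    [PreservesFiniteLimits (EtCoh.pull t)] (m : ℕ)
    (a : HH Y ((EtCoh.pull t).obj (EtCoh.const X (ZMod n))) m) :
    (cE t n m).symm (hpVia s t t w (EtCoh.const X (ZMod n)) m a) = actS t n s w m ((cE t n m).symm a) := by
  apply (cE t n m).injective
  rw [AddEquiv.apply_symm_apply, cE_apply, ← hpVia_cc, ← cE_apply, AddEquiv.apply_symm_apply]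

variable {n} {N i q : ℕ}

/-- **The invariant pairing.** -/
theorem exists_pairing (h : i + q = N)
    (A : ∃ tr : Ext.{u + 1} (cM (Lam.{u} n) Y) (cM (Lam.{u} n) Y) N →+ ZMod n, SheafDual n tr) :
    ∃ P : HH Y ((EtCoh.pull t).obj (EtCoh.const X (ZMod n))) q →+
        (HH Y ((EtCoh.pull t).obj (EtCoh.const X (ZMod n))) i →+ ZMod n),
      Function.Bijective P ∧
      ∀ (s : Y ⟶ Y) (w : s ≫ t = t) [PreservesFiniteLimits (EtCoh.pull s)]
        [PreservesFiniteLimits (EtCoh.pull t)],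
        (∀ z, hpVia s t t w (EtCoh.const X (ZMod n)) N z = z) → ∀ a b,
          P (hpVia s t t w (EtCoh.const X (ZMod n)) q b) (hpVia s t t w (EtCoh.const X (ZMod n)) i a) =
            P b a := by
  obtain ⟨tr, A⟩ := A
  let Q : HH Y ((EtCoh.pull t).obj (EtCoh.const X (ZMod n))) q ≃+
        (HH Y ((EtCoh.pull t).obj (EtCoh.const X (ZMod n))) i →+ ZMod n) :=
    ((cE t n q).symm.trans (AddEquiv.ofBijective _ (A.bij (cM (Lam.{u} n) Y) h))).trans
      (AddEquiv.addMonoidHomCongrLeft (cE t n i))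
  have hQ : ∀ b a, Q b a = tr (((cE t n i).symm a).comp ((cE t n q).symm b) h) := fun b a => rfl
  refine ⟨Q.toAddMonoidHom, Q.bijective, ?_⟩
  intro s w _ _ hz a b
  change Q _ _ = Q _ _
  rw [hQ, hQ, cE_symm_hpVia, cE_symm_hpVia, ← actS_comp]
  congr 1
  have h1 := hz (cE t n N (((cE t n i).symm a).comp ((cE t n q).symm b) h))
  rw [cE_apply, hpVia_cc] at h1
  exact (cc_bijective t n N).1 h1

end Groth.Agent.Vancyc.H700.PairB
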