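import Groth.Agent.Vancyc.H700.YonedaEqui
import Groth.Agent.Sga4h.BidGlobPkg
import Groth.Agent.Etrest.ModCons
import Groth.Agent.Etcore.HpVia

/-!
# The Yoneda pairing on `H^*(Y, t⁻¹ ℤ/n)` and its invariance under endomorphisms of `Y` over `X`

`t : Y ⟶ X`, `G = t⁻¹ (ℤ/n)_X`, `s : Y ⟶ Y` with `s ≫ t = t`. From `SheafDual` on `Y` (Poincaré duality in the category of
sheaves of `ℤ/n`-modules) one gets a pairing `H^i(Y, G) × H^q(Y, G) → ℤ/n`, `i + q = N`, perfect in the second variable,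
and invariant under `s*` as soon as `s*` is the identity on `H^N(Y, G)`.
-/

set_option autoImplicit false
universe u

open CategoryTheory CategoryTheory.Limits CategoryTheory.Abelian AlgebraicGeometry Opposite
open scoped Groth.Agent.Etcore.EtInst Groth.Agent.Sga4B.PDInst
open Groth.Agent.Etcore.EtInst Groth.Agent.Etcore.HpullCalc Groth.Agent.Etcore.ExtMap
open Groth.Agent.Sga4h Groth.Agent.Sga4h.BidGlobDual Groth.Agent.Sga4h.BidGlobPkg
open Groth.Agent.Sga4B Groth.Agent.Sga4B.LMLS Groth.Agent.Sga4B.ModExtU Groth.Agent.Etrest.ModAb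
open Groth.Agent.Vancyc.H700.YonedaEqui Groth.Agent.EtpbcA

namespace Groth.Agent.Vancyc.H700.PairH

variable {X Y : Scheme.{u}}

section Unit

variable (Λ : Type (u + 1)) [CommRing Λ] (Y)

theorem modConstAdj_unit_app (M : ModuleCat.{u + 1} Λ) :
    (PDConst.modConstAdj Λ Y).unit.app M =
      (toSheafify Y.smallEtaleTopology ((Functor.const _).obj M)).app (op (EtCoh.top Y)) := by
  simp [constantSheafAdj, Adjunction.comp_unit_app, constantPresheafAdj]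

theorem constAdj_unit_app (M : AddCommGrpCat.{u + 1}) :
    (EtCore.constAdj Y).unit.app M =
      (toSheafify Y.smallEtaleTopology ((Functor.const _).obj M)).app (op (EtCoh.top Y)) := by
  simp [constantSheafAdj, Adjunction.comp_unit_app, constantPresheafAdj]

/-- The comparison of constant sheaves is compatible with the unit sections. -/
theorem constIso_hom_unit (M : ModuleCat.{u + 1} Λ) (m : M) :
    (((constIso Λ Y).hom.app M).hom.app (op (EtCoh.top Y))).hom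
        (((PDConst.modConstAdj Λ Y).unit.app M).hom m) =
      ((EtCore.constAdj Y).unit.app ((fg Λ).obj M)).hom m := by
  have h1 := sheafComposeIso_inv_fac (J := Y.smallEtaleTopology) (fg Λ) ((Functor.const Y.Etaleᵒᵖ).obj M)
  have h2 := toSheafify_naturality Y.smallEtaleTopology (Functor.constComp Y.Etaleᵒᵖ M (fg Λ)).hom
  have h3 := congrArg (fun t => (t.app (op (EtCoh.top Y))).hom m)
    (congrArg (fun t => t ≫ sheafifyMap Y.smallEtaleTopology (Functor.constComp Y.Etaleᵒᵖ M (fg Λ)).hom) h1)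
  rw [constAdj_unit_app, modConstAdj_unit_app]
  refine Eq.trans ?_ (h3.trans ?_)
  · rfl
  · exact congrArg (fun t => (t.app (op (EtCoh.top Y))).hom m) h2.symm

end Unit

section Cmp

variable (t : Y ⟶ X) (n : ℕ)

/-- The unit `ℤ_Y ⟶ Λ_Y`. -/
noncomputable def uu (Y : Scheme.{u}) (n : ℕ) :
    EtCoh.const Y ℤ ⟶ (ab (Lam.{u} n) Y).obj (cM (Lam.{u} n) Y) :=
  (JFComp.topIso ℤ Y).symm.hom ≫ secMap (EtCoh.top Y) (PDConst.oneAb (Lam.{u} n) Y)

/-- `Λ_Y ≅ t⁻¹ (ℤ/n)_X`. -/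
noncomputable def vv : (ab (Lam.{u} n) Y).obj (cM (Lam.{u} n) Y) ≅
    (EtCoh.pull t).obj (EtCoh.const X (ZMod n)) :=
  (constIso (Lam.{u} n) Y).app (ModuleCat.of (Lam.{u} n) (Lam.{u} n)) ≪≫ (EtCore.pullConst t (ZMod n)).symm

theorem bijective_extMap_uu (F : EtModW.Mod (Lam.{u} n) Y) (m : ℕ) :
    Function.Bijective (extMap (ab (Lam.{u} n) Y) (uu Y n) F m) :=
  bijective_extMap_precomp (ab (Lam.{u} n) Y) (JFComp.topIso ℤ Y).symm _ F m
    (PDConst.bijective_extMap_one (Lam.{u} n) Y F m)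

theorem H0_uu : H0 Y _ (Ext.mk₀ (uu Y n)) = PDConst.oneAb (Lam.{u} n) Y := by
  rw [H0_mk₀, uu, Adjunction.homEquiv_naturality_right]
  have h : (EtCore.constAdj Y).homEquiv _ _ (JFComp.topIso ℤ Y).symm.hom =
      (AddCommGrpCat.ofHom ((Jshriek.univ (EtCoh.top Y) ℤ).comp AddEquiv.ulift.toAddMonoidHom)) :=
    ((EtCore.constAdj Y).homEquiv _ _).apply_symm_apply _
  rw [h]
  exact secMap_univ (EtCoh.top Y) (PDConst.oneAb (Lam.{u} n) Y)

/-- The unit section of `t⁻¹ (ℤ/n)_X` comes from `X`. -/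
theorem exists_hp_unit [PreservesFiniteLimits (EtCoh.pull t)] :
    ∃ z : HH X (EtCoh.const X (ZMod n)) 0, hp t _ 0 z = Ext.mk₀ (uu Y n ≫ (vv t n).hom) := by
  refine ⟨(H0 X _).symm ((EtCore.constAdj X).unit.app (AddCommGrpCat.of (ULift.{u + 1} (ZMod n)))
    (ULift.up (1 : ZMod n))), ?_⟩
  apply (H0 Y _).injective
  rw [hp_zero, AddEquiv.apply_symm_apply]
  have h1 : (Ext.mk₀ (uu Y n ≫ (vv t n).hom) : HH Y ((EtCoh.pull t).obj (EtCoh.const X (ZMod n))) 0) =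
      HHmap (vv t n).hom 0 (Ext.mk₀ (uu Y n)) := by
    rw [HHmap_apply, Ext.mk₀_comp_mk₀]
  rw [h1, H0_map, H0_uu]
  have h2 := constIso_hom_unit Y (Lam.{u} n) (ModuleCat.of (Lam.{u} n) (Lam.{u} n)) (1 : Lam.{u} n)
  have h3 := constAdj_homEquiv_pullConstIso_inv' t (AddCommGrpCat.of (ULift.{u + 1} (ZMod n)))
  rw [Adjunction.homEquiv_unit] at h3
  have h4 := congrArg (fun k => k.hom (ULift.up (1 : ZMod n))) h3
  refine Eq.trans h4.symm ?_
  exact congrArg (fun k => ((EtCore.pullConstIso t).inv.app (AddCommGrpCat.of (ULift.{u + 1} (ZMod n)))).hom.app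
    (op (EtCoh.top Y)) k) h2.symm

/-- The comparison `Ext^m_Λ(Λ_Y, Λ_Y) ≃ H^m(Y, t⁻¹ (ℤ/n)_X)`. -/
noncomputable def cc (m : ℕ) : Ext.{u + 1} (cM (Lam.{u} n) Y) (cM (Lam.{u} n) Y) m →+
    HH Y ((EtCoh.pull t).obj (EtCoh.const X (ZMod n))) m :=
  cmp (ab (Lam.{u} n) Y) (uu Y n) (vv t n).hom m

theorem cc_bijective (m : ℕ) : Function.Bijective (cc t n m) :=
  cmp_bijective (ab (Lam.{u} n) Y) (uu Y n) (vv t n).hom m (bijective_extMap_uu n (cM (Lam.{u} n) Y) m)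

variable (s : Y ⟶ Y) (w : s ≫ t = t)

/-- `s⁻¹ Λ_Y ≅ Λ_Y`, compatible with `t`. -/
noncomputable def cs : (EtModW.pull (Lam.{u} n) s).obj (cM (Lam.{u} n) Y) ≅ cM (Lam.{u} n) Y :=
  (ab (Lam.{u} n) Y).preimageIso ((pullIso (Lam.{u} n) s).app (cM (Lam.{u} n) Y) ≪≫
    (EtCoh.pull s).mapIso (vv t n) ≪≫ ((EtCore.pullComp s t).symm ≪≫ EtCore.pullCongr w).app _ ≪≫ (vv t n).symm)

/-- The action of `s` on `Ext^m_Λ(Λ_Y, Λ_Y)`. -/
noncomputable def actS (m : ℕ) : Ext.{u + 1} (cM (Lam.{u} n) Y) (cM (Lam.{u} n) Y) m →+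
    Ext.{u + 1} (cM (Lam.{u} n) Y) (cM (Lam.{u} n) Y) m :=
  act (EtModW.pull (Lam.{u} n) s) (cs t n s w) m

theorem actS_comp {i j k : ℕ} (h : i + j = k) (x : Ext.{u + 1} (cM (Lam.{u} n) Y) (cM (Lam.{u} n) Y) i)
    (y : Ext.{u + 1} (cM (Lam.{u} n) Y) (cM (Lam.{u} n) Y) j) :
    actS t n s w k (x.comp y h) = (actS t n s w i x).comp (actS t n s w j y) h :=
  act_comp (EtModW.pull (Lam.{u} n) s) (cs t n s w) h x y

/-- The transport isomorphism `s⁻¹ t⁻¹ ℤ/n ≅ t⁻¹ ℤ/n`. -/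
noncomputable def tG : (EtCoh.pull s).obj ((EtCoh.pull t).obj (EtCoh.const X (ZMod n))) ⟶
    (EtCoh.pull t).obj (EtCoh.const X (ZMod n)) :=
  (EtCore.pullComp s t).inv.app _ ≫ (EtCore.pullCongr w).hom.app _

theorem hinv [PreservesFiniteLimits (EtCoh.pull s)] [PreservesFiniteLimits (EtCoh.pull t)] :
    (EtCore.pullConst s ℤ).inv ≫ (EtCoh.pull s).map (uu Y n ≫ (vv t n).hom) ≫ tG t n s w =
      uu Y n ≫ (vv t n).hom := by
  obtain ⟨z, hz⟩ := exists_hp_unit (Y := Y) t n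
  have h1 := hpVia_hp s t t w (EtCoh.const X (ZMod n)) 0 z
  rw [hz, hpVia_apply, hp_apply, Ext.mapExactFunctor_mk₀, Ext.mk₀_comp_mk₀, HHmap_apply,
    Ext.mk₀_comp_mk₀] at h1
  have h2 := (Ext.mk₀_bijective _ _).1 h1
  rw [Category.assoc] at h2
  exact h2

theorem hab : (ab (Lam.{u} n) Y).map (cs t n s w).hom = (pullIso (Lam.{u} n) s).hom.app (cM (Lam.{u} n) Y) ≫
      (EtCoh.pull s).map (vv t n).hom ≫ tG t n s w ≫ (vv t n).inv := by
  rw [cs, Functor.preimageIso_hom, Functor.map_preimage]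
  rfl

theorem hab1 : (ab (Lam.{u} n) Y).map (cs t n s w).hom ≫ (vv t n).hom =
    (pullIso (Lam.{u} n) s).hom.app (cM (Lam.{u} n) Y) ≫ (EtCoh.pull s).map (vv t n).hom ≫ tG t n s w := by
  rw [hab, Category.assoc, Category.assoc, Category.assoc, Iso.inv_hom_id]
  erw [Category.comp_id]

theorem hab2 [PreservesFiniteLimits (EtCoh.pull s)] [PreservesFiniteLimits (EtCoh.pull t)] :
    (EtCore.pullConst s ℤ).inv ≫ (EtCoh.pull s).map (uu Y n) ≫
      (pullIso (Lam.{u} n) s).inv.app (cM (Lam.{u} n) Y) ≫ (ab (Lam.{u} n) Y).map (cs t n s w).hom = uu Y n := by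
  rw [hab, Iso.inv_hom_id_app_assoc, ← Functor.map_comp_assoc]
  have h3 := congrArg (fun k => k ≫ (vv t n).inv) (hinv t n s w)
  simp only [Category.assoc, Iso.hom_inv_id] at h3
  erw [Category.comp_id] at h3
  exact h3

theorem hfin [PreservesFiniteLimits (EtCoh.pull s)] [PreservesFiniteLimits (EtCoh.pull t)] (m : ℕ)
    (e : Ext.{u + 1} (cM (Lam.{u} n) Y) (cM (Lam.{u} n) Y) m) :
    (extMap (EtCoh.pull s) (EtCore.pullConst s ℤ).inv ((EtCoh.pull t).obj (EtCoh.const X (ZMod n))) m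
      (cmp (ab (Lam.{u} n) Y) (uu Y n) (vv t n).hom m e)).comp (Ext.mk₀ (tG t n s w)) (add_zero m) =
      cmp (ab (Lam.{u} n) Y) (uu Y n) (vv t n).hom m (act (EtModW.pull (Lam.{u} n) s) (cs t n s w) m e) :=
  cmp_act (ab (Lam.{u} n) Y) (uu Y n) (vv t n).hom (EtModW.pull (Lam.{u} n) s) (EtCoh.pull s)
    (pullIso (Lam.{u} n) s) (cs t n s w) (EtCore.pullConst s ℤ).inv (tG t n s w)
    (hab1 t n s w) (hab2 t n s w) m e

/-- The comparison is equivariant. -/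
theorem hpVia_cc [PreservesFiniteLimits (EtCoh.pull s)] [PreservesFiniteLimits (EtCoh.pull t)] (m : ℕ)
    (e : Ext.{u + 1} (cM (Lam.{u} n) Y) (cM (Lam.{u} n) Y) m) :
    hpVia s t t w (EtCoh.const X (ZMod n)) m (cc t n m e) = cc t n m (actS t n s w m e) :=
  hfin t n s w m e

end Cmp

end Groth.Agent.Vancyc.H700.PairH
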