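import Groth.Agent.Vancyc.H679.PunctPi
import Groth.Agent.Etcore.HpVia
import Groth.Agent.Etcore.StalkUnit
import Groth.Agent.Etcore.LamTriv
import Groth.Agent.EtpbcB.SepClosedPoint
import Groth.Agent.CurvesA.ClosedPtSep

/-!
# `H^0` of constant sheaves on finite discrete schemes with separably closed residue fields

`bijective_joint`: pull-back to the points of a finite discrete scheme with separably closed residue fields is
bijective on `H^0`; `kap`: the constants on a geometric point.
-/

set_option autoImplicit false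
universe u

open CategoryTheory CategoryTheory.Limits CategoryTheory.Abelian AlgebraicGeometry Opposite
open scoped Groth.Agent.Etcore.EtInst
open Groth.Agent.Etcore.EtInst Groth.Agent.Etcore.HpullCalc Groth.Agent.EtpbcB.SepClosedPoint

namespace Groth.Agent.Vancyc.H700.PtsZ

section Point

variable (Ω : Type u) [Field Ω] [IsSepClosed Ω]

theorem constAdj_unit (X : Scheme.{u}) (M : AddCommGrpCat.{u + 1}) :
    (EtCore.constAdj X).unit.app M = (toSheafify X.smallEtaleTopology
        ((Functor.const X.Etaleᵒᵖ).obj M)).app (op (EtCoh.top X)) := by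
  unfold EtCore.constAdj constantSheafAdj
  rw [Adjunction.comp_unit_app]
  exact Category.id_comp _

/-- The constants are the global sections of a constant sheaf on a geometric point. -/
theorem bijective_unit (M : AddCommGrpCat.{u + 1}) :
    Function.Bijective ((EtCore.constAdj (Spec (CommRingCat.of Ω))).unit.app M).hom := by
  let P : (Spec (CommRingCat.of Ω)).Etaleᵒᵖ ⥤ AddCommGrpCat.{u + 1} := (Functor.const _).obj M
  let Φ := Scheme.pointSmallEtale (pt Ω)
  have h1 : IsIso (Φ.presheafFiber.map (toSheafify (Spec (CommRingCat.of Ω)).smallEtaleTopology P)) :=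
    Φ.W_isInvertedBy_presheafFiber' _ (GrothendieckTopology.W_toSheafify _ P)
  have h3 : IsIso (Φ.toPresheafFiber (EtCoh.top (Spec (CommRingCat.of Ω))) (elt Ω) P) :=
    isIso_toPresheafFiber Ω P
  have h3' : IsIso (Φ.toPresheafFiber (EtCoh.top (Spec (CommRingCat.of Ω))) (elt Ω)
      (sheafify (Spec (CommRingCat.of Ω)).smallEtaleTopology P)) := isIso_toPresheafFiber Ω _
  have h4 := Φ.toPresheafFiber_naturality (toSheafify (Spec (CommRingCat.of Ω)).smallEtaleTopology P)
    (EtCoh.top (Spec (CommRingCat.of Ω))) (elt Ω)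
  have h5 : IsIso ((toSheafify (Spec (CommRingCat.of Ω)).smallEtaleTopology P).app
      (op (EtCoh.top (Spec (CommRingCat.of Ω)))) ≫
      Φ.toPresheafFiber (EtCoh.top (Spec (CommRingCat.of Ω))) (elt Ω)
        (sheafify (Spec (CommRingCat.of Ω)).smallEtaleTopology P)) := by
    rw [← h4]
    infer_instance
  have h6 : IsIso ((toSheafify (Spec (CommRingCat.of Ω)).smallEtaleTopology P).app
      (op (EtCoh.top (Spec (CommRingCat.of Ω))))) :=
    IsIso.of_isIso_comp_right _ (Φ.toPresheafFiber (EtCoh.top (Spec (CommRingCat.of Ω))) (elt Ω)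
        (sheafify (Spec (CommRingCat.of Ω)).smallEtaleTopology P))
  have h7 := ConcreteCategory.bijective_of_isIso ((toSheafify (Spec (CommRingCat.of Ω)).smallEtaleTopology P).app
      (op (EtCoh.top (Spec (CommRingCat.of Ω)))))
  rw [constAdj_unit]
  exact h7

variable {Ω} {X : Scheme.{u}} (τ : Spec (CommRingCat.of Ω) ⟶ X) (M : AddCommGrpCat.{u + 1})

/-- The class of a constant. -/
noncomputable def cst (X : Scheme.{u}) (M : AddCommGrpCat.{u + 1}) :
    M →+ HH X ((constantSheaf X.smallEtaleTopology AddCommGrpCat.{u + 1}).obj M) 0 :=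
  (H0 X _).symm.toAddMonoidHom.comp ((EtCore.constAdj X).unit.app M).hom

theorem H0_cst (X : Scheme.{u}) (M : AddCommGrpCat.{u + 1}) (m : M) :
    H0 X _ (cst X M m) = ((EtCore.constAdj X).unit.app M).hom m :=
  (H0 X _).apply_symm_apply _

/-- The value at a geometric point. -/
noncomputable def kap : M →+ HH (Spec (CommRingCat.of Ω))
    ((EtCoh.pull τ).obj ((constantSheaf X.smallEtaleTopology AddCommGrpCat.{u + 1}).obj M)) 0 :=
  (hp τ _ 0).comp (cst X M)

theorem kap_bijective : Function.Bijective (kap τ M) := by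
  have h1 : ∀ m : M, H0 _ _ (kap τ M m) =
      ((EtCore.pullConstIso τ).inv.app M).hom.app (op (EtCoh.top (Spec (CommRingCat.of Ω))))
        (((EtCore.constAdj (Spec (CommRingCat.of Ω))).unit.app M).hom m) := by
    intro m
    have h2 : H0 _ _ (kap τ M m) = (unitSec τ _).hom (H0 X _ (cst X M m)) := hp_zero τ _ _
    rw [h2, H0_cst]
    have h3 := constAdj_homEquiv_pullConstIso_inv' τ M
    rw [Adjunction.homEquiv_unit] at h3
    exact (congrArg (fun k => k.hom m) h3).symm
  have h4 : Function.Bijective (((EtCore.pullConstIso τ).inv.app M).hom.app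
      (op (EtCoh.top (Spec (CommRingCat.of Ω))))) := by
    have : IsIso (((EtCore.pullConstIso τ).inv.app M).hom.app (op (EtCoh.top (Spec (CommRingCat.of Ω))))) :=
      inferInstanceAs (IsIso ((EtCore.gsec _).map ((EtCore.pullConstIso τ).inv.app M)))
    exact ConcreteCategory.bijective_of_isIso _
  have h5 : Function.Bijective (fun m : M => H0 _ _ (kap τ M m)) := by
    have : (fun m : M => H0 _ _ (kap τ M m)) = _ ∘ ⇑((EtCore.constAdj (Spec (CommRingCat.of Ω))).unit.app M).hom :=
      funext h1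
    rw [this]
    exact h4.comp (bijective_unit Ω M)
  exact (Function.Bijective.of_comp_iff' (H0 _ _).bijective _).1 h5

omit [IsSepClosed Ω] in
theorem kap_eq (m : M) : kap τ M m = hp τ _ 0 (cst X M m) := rfl

end Point

section Joint

open Groth.Agent.Vancyc.H679.PunctPi Groth.Agent.Etcore

variable {Y : Scheme.{u}}

/-- The pull-back to a geometric point is the germ. -/
theorem germ_hp {Ω : Type u} [Field Ω] [IsSepClosed Ω] (ζ : Spec (CommRingCat.of Ω) ⟶ Y) (F : EtCoh.Ab Y) :
    ∃ e : EtCoh.sect ((EtCoh.pull ζ).obj F) (EtCoh.top (Spec (CommRingCat.of Ω))) ≃+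
        ((EtCoh.stalk (𝟙 _ ≫ ζ)).obj F : Type (u + 1)),
      ∀ a : HH Y F 0, e (H0 _ _ (hp ζ F 0 a)) = gtop (𝟙 _ ≫ ζ) F (H0 Y F a) := by
  have h1 := bijective_toPresheafFiber Ω ((EtCoh.pull ζ).obj F).obj
  let e1 : EtCoh.sect ((EtCoh.pull ζ).obj F) (EtCoh.top (Spec (CommRingCat.of Ω))) ≃+
      ((EtCoh.stalk (pt Ω)).obj ((EtCoh.pull ζ).obj F) : Type (u + 1)) :=
    AddEquiv.ofBijective ((Scheme.pointSmallEtale (pt Ω)).toPresheafFiber
        (EtCoh.top (Spec (CommRingCat.of Ω))) (elt Ω) ((EtCoh.pull ζ).obj F).obj).hom h1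
  let e2 : ((EtCoh.stalk (𝟙 _ ≫ ζ)).obj F : Type (u + 1)) ≃+
      ((EtCoh.stalk (pt Ω)).obj ((EtCoh.pull ζ).obj F) : Type (u + 1)) :=
    ((Etbase.StalkPull.stalkPullIso ζ (pt Ω)).app F).addCommGroupIsoToAddEquiv
  refine ⟨e1.trans e2.symm, fun a => ?_⟩
  rw [hp_zero]
  apply e2.injective
  change e2 (e2.symm (e1 _)) = _
  rw [AddEquiv.apply_symm_apply]
  have h2 := StalkUnit.stalkPullIso_hom_germ ζ (pt Ω) F (V := EtCoh.top Y) (topPt (𝟙 _ ≫ ζ)) (H0 Y F a)
  refine Eq.trans ?_ h2.symm
  have h3 := Stalks.germ_res (ξ := pt Ω) (F := (EtCoh.pull ζ).obj F) (EtCore.bcTopIso ζ).inv (elt Ω)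
    (((EtCoh.pullPushAdj ζ).unit.app F).hom.app (op (EtCoh.top Y)) (H0 Y F a))
  refine Eq.trans h3 ?_
  have h4 : (Scheme.pointSmallEtale (pt Ω)).fiber.map (EtCore.bcTopIso ζ).inv (elt Ω) =
      (Etbase.StalkPull.fiberIso ζ (pt Ω)).hom.app (EtCoh.top Y) (topPt (𝟙 _ ≫ ζ)) := by
    refine StalkSec.ext_hom (pt Ω) _ _ ?_
    have hm : Mono ((EtCoh.bc ζ).obj (EtCoh.top Y)).hom := by
      have : IsIso ((EtCoh.bc ζ).obj (EtCoh.top Y)).hom :=
        inferInstanceAs (IsIso (pullback.snd (𝟙 Y) ζ))
      infer_instance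
    rw [← cancel_mono ((EtCoh.bc ζ).obj (EtCoh.top Y)).hom]
    exact (StalkSec.hom_comp (pt Ω) _).trans (StalkSec.hom_comp (pt Ω) _).symm
  rw [h4]

/-- The canonical geometric point. -/
noncomputable def gp (y : Y) : Spec (CommRingCat.of (Y.residueField y)) ⟶ Y := Y.fromSpecResidueField y

theorem gp_default (y : Y) : (𝟙 _ ≫ gp y) default = y := by
  rw [Category.id_comp]
  exact Scheme.fromSpecResidueField_apply _ _

/-- Pull-back to the points of a finite discrete scheme. -/
theorem bijective_joint [Finite Y] (hc : ∀ y : Y, IsClosed ({y} : Set Y))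
    (hs : ∀ y : Y, IsSepClosed (Y.residueField y)) (F : EtCoh.Ab Y) :
    Function.Bijective (fun (a : HH Y F 0) (y : Y) => hp (gp y) F 0 a) := by
  classical
  have := Fintype.ofFinite Y
  let ξ : ∀ y : Y, Spec (CommRingCat.of (Y.residueField y)) ⟶ Y := fun y => 𝟙 _ ≫ gp y
  have hξ : ∀ y, ξ y default = y := fun y => gp_default y
  choose e he using fun y : Y => germ_hp (gp y) F
  constructor
  · intro a b hab
    apply (H0 Y F).injective
    rw [← sub_eq_zero]
    refine injective_germs (Finset.univ : Finset Y) F (by simp) (fun y => Y.residueField y) ξ hξ _ fun y _ => ?_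
    rw [map_sub, sub_eq_zero]
    have h1 := congrFun hab y
    exact (he y a).symm.trans ((congrArg (fun c => e y (H0 _ _ c)) h1).trans (he y b))
  · intro p
    obtain ⟨s, hs'⟩ := surjective_germs (Finset.univ : Finset Y) (fun y _ => hc y) (fun y _ => hs y) F (by simp)
      (fun y => Y.residueField y) ξ hξ (fun y => e y (H0 _ _ (p y)))
    refine ⟨(H0 Y F).symm s, funext fun y => ?_⟩
    apply (H0 _ _).injective
    apply (e y).injective
    rw [he y, AddEquiv.apply_symm_apply]
    exact hs' y (Finset.mem_univ y)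

end Joint

end Groth.Agent.Vancyc.H700.PtsZ
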