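import Groth.Agent.Vancyc.H700.PtsZ

/-!
# `H^0` of constant sheaves on finite discrete schemes with separably closed residue fields: functoriality

`exists_equiv`: for `t : Y ⟶ X`, `Y` finite discrete with separably closed residue fields,
`H^0(Y, t⁻¹ (ℤ/N)_X) ≃ (Y → ℤ/N)`, compatibly with endomorphisms of `Y` over `X`.
-/

set_option autoImplicit false
universe u v

open CategoryTheory CategoryTheory.Limits CategoryTheory.Abelian AlgebraicGeometry Opposite
open scoped Groth.Agent.Etcore.EtInst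
open Groth.Agent.Etcore.EtInst Groth.Agent.Etcore.HpullCalc Groth.Agent.Etcore.HpVia
open Groth.Agent.Vancyc.H700.PtsZ

namespace Groth.Agent.Vancyc.H700.PtsZE

section Main

variable {X Y : Scheme.{u}} (t : Y ⟶ X) {M : Type v} [AddCommGroup M] (G : EtCoh.Ab X) (c : M →+ HH X G 0)

/-- The hypothesis on the constants. -/
def Pts : Prop := ∀ (Ω : Type u) [Field Ω] [IsSepClosed Ω] (τ : Spec (CommRingCat.of Ω) ⟶ X),
  Function.Bijective (fun m : M => hp τ G 0 (c m))

variable {G c}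

theorem exists_ev (h : Pts G c) (y : Y) [IsSepClosed (Y.residueField y)] :
    ∃ e : HH Y ((EtCoh.pull t).obj G) 0 →+ M, ∀ a,
      hp (gp y ≫ t) G 0 (c (e a)) = hpVia (gp y) t (gp y ≫ t) rfl G 0 a := by
  let k : M →+ HH (Spec (CommRingCat.of (Y.residueField y))) ((EtCoh.pull (gp y ≫ t)).obj G) 0 :=
    (hp (gp y ≫ t) G 0).comp c
  let e := AddEquiv.ofBijective k (h _ (gp y ≫ t))
  refine ⟨e.symm.toAddMonoidHom.comp (hpVia (gp y) t (gp y ≫ t) rfl G 0), fun a => ?_⟩
  exact e.apply_symm_apply _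

theorem ev_hpVia (h : Pts G c) (s : Y ⟶ Y) (w : s ≫ t = t) [PreservesFiniteLimits (EtCoh.pull s)] (y : Y)
    [IsSepClosed (Y.residueField y)]
    (a : HH Y ((EtCoh.pull t).obj G) 0) (m m' : M)
    (hm : hp (gp y ≫ t) G 0 (c m) = hpVia (gp y) t (gp y ≫ t) rfl G 0 (hpVia s t t w G 0 a))
    (hm' : hp (gp (s y) ≫ t) G 0 (c m') = hpVia (gp (s y)) t (gp (s y) ≫ t) rfl G 0 a) :
    m = m' := by
  apply (h _ (gp y ≫ t)).1
  let φ : Spec (CommRingCat.of (Y.residueField y)) ⟶ Spec (CommRingCat.of (Y.residueField (s y))) :=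
    Spec.map (s.residueFieldMap y)
  have hφ : φ ≫ gp (s y) = gp y ≫ s := Scheme.Hom.SpecMap_residueFieldMap_fromSpecResidueField s y
  have w1 : φ ≫ gp (s y) ≫ t = gp y ≫ t := by
    rw [← Category.assoc, hφ, Category.assoc, w]
  have w2 : (gp y ≫ s) ≫ t = gp y ≫ t := by rw [Category.assoc, w]
  have h1 : hp (gp y ≫ t) G 0 (c m') =
      hpVia φ (gp (s y) ≫ t) (gp y ≫ t) w1 G 0 (hp (gp (s y) ≫ t) G 0 (c m')) := by
    rw [hpVia_hp]
  dsimp only
  rw [h1, hm, hm', hpVia_hpVia (gp y) s t (gp y ≫ s) t (gp y ≫ t) rfl w rfl w2,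
    hpVia_hpVia φ (gp (s y)) t (gp y ≫ s) (gp (s y) ≫ t) (gp y ≫ t) hφ rfl w1 w2]

theorem exists_equiv' (h : Pts G c) [Finite Y] (hc : ∀ y : Y, IsClosed ({y} : Set Y))
    (hs : ∀ y : Y, IsSepClosed (Y.residueField y)) :
    ∃ E : HH Y ((EtCoh.pull t).obj G) 0 ≃+ (Y → M),
      ∀ (s : Y ⟶ Y) (w : s ≫ t = t) [PreservesFiniteLimits (EtCoh.pull s)] a (y : Y),
        E (hpVia s t t w G 0 a) y = E a (s y) := by
  have h1 := bijective_joint hc hs ((EtCoh.pull t).obj G)
  choose e he using fun y : Y => exists_ev t h y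
  have h2 : ∀ y : Y, Function.Bijective (HHmap ((EtCore.pullComp (gp y) t).inv.app G ≫
        (EtCore.pullCongr (rfl : gp y ≫ t = gp y ≫ t)).hom.app G) 0) := fun y => HHmap_bijective _ 0
  have h3 : ∀ (y : Y) a, hp (gp y ≫ t) G 0 (c (e y a)) = HHmap ((EtCore.pullComp (gp y) t).inv.app G ≫
        (EtCore.pullCongr (rfl : gp y ≫ t = gp y ≫ t)).hom.app G) 0 (hp (gp y) _ 0 a) := fun y a => by
    rw [he, hpVia_apply]
  let Φ : HH Y ((EtCoh.pull t).obj G) 0 →+ (Y → M) := AddMonoidHom.pi e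
  have hΦ : Function.Bijective Φ := by
    constructor
    · intro a b hab
      apply h1.1
      funext y
      apply (h2 y).1
      have h4 : e y a = e y b := congrFun hab y
      dsimp only
      rw [← h3 y a, ← h3 y b, h4]
    · intro p
      choose d hd using fun y : Y => (h2 y).2 (hp (gp y ≫ t) G 0 (c (p y)))
      obtain ⟨a, ha⟩ := h1.2 d
      refine ⟨a, funext fun y => ?_⟩
      apply (h _ (gp y ≫ t)).1
      have h5 : hp (gp y) ((EtCoh.pull t).obj G) 0 a = d y := congrFun ha y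
      change hp (gp y ≫ t) G 0 (c (e y a)) = _
      rw [h3 y a, h5, hd y]
  refine ⟨AddEquiv.ofBijective Φ hΦ, ?_⟩
  intro s w _ a y
  exact ev_hpVia t h s w y a _ _ (he y _) (he (s y) a)

end Main

end Groth.Agent.Vancyc.H700.PtsZE
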