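import Groth.Agent.Vancyc.H700.PtsZE

/-!
# `H^0(Y, t⁻¹ (ℤ/N)_X) ≃ (Y → ℤ/N)` for `Y` étale and finite over a separably closed field
-/

set_option autoImplicit false
universe u v

open CategoryTheory CategoryTheory.Limits CategoryTheory.Abelian AlgebraicGeometry Opposite
open scoped Groth.Agent.Etcore.EtInst
open Groth.Agent.Etcore.EtInst Groth.Agent.Etcore.HpullCalc
open Groth.Agent.Vancyc.H700.PtsZ Groth.Agent.Vancyc.H700.PtsZE

namespace Groth.Agent.Vancyc.H700.PtsZN

variable {X Y : Scheme.{u}}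

/-- The constants in `H^0(X, ℤ/N)`. -/
noncomputable def cN (X : Scheme.{u}) (N : ℕ) : ZMod N →+ HH X (EtCoh.const X (ZMod N)) 0 :=
  (cst X (AddCommGrpCat.of (ULift.{u + 1} (ZMod N)))).comp AddEquiv.ulift.symm.toAddMonoidHom

theorem pts_const (N : ℕ) : Pts (EtCoh.const X (ZMod N)) (cN X N) := by
  intro Ω _ _ τ
  have h1 := kap_bijective τ (AddCommGrpCat.of (ULift.{u + 1} (ZMod N)))
  exact h1.comp (AddEquiv.ulift (α := ZMod N)).symm.bijective

/-- **`H^0` of a constant sheaf on a finite discrete scheme** with separably closed residue fields, with its functoriality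
for endomorphisms over the base. -/
theorem exists_equiv (t : Y ⟶ X) [Finite Y] (hc : ∀ y : Y, IsClosed ({y} : Set Y))
    (hs : ∀ y : Y, IsSepClosed (Y.residueField y)) (N : ℕ) :
    ∃ E : HH Y ((EtCoh.pull t).obj (EtCoh.const X (ZMod N))) 0 ≃+ (Y → ZMod N),
      ∀ (s : Y ⟶ Y) (w : s ≫ t = t) [PreservesFiniteLimits (EtCoh.pull s)] a (y : Y),
        E (hpVia s t t w (EtCoh.const X (ZMod N)) 0 a) y = E a (s y) :=
  exists_equiv' t (pts_const N) hc hs

/-- Version over a separably closed field. -/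
theorem exists_equiv_field {k : Type u} [Field k] [IsSepClosed k] (a : Y ⟶ Spec (CommRingCat.of k))
    [LocallyOfFiniteType a] (t : Y ⟶ X) [Finite Y] (hc : ∀ y : Y, IsClosed ({y} : Set Y)) (N : ℕ) :
    ∃ E : HH Y ((EtCoh.pull t).obj (EtCoh.const X (ZMod N))) 0 ≃+ (Y → ZMod N),
      ∀ (s : Y ⟶ Y) (w : s ≫ t = t) [PreservesFiniteLimits (EtCoh.pull s)] a (y : Y),
        E (hpVia s t t w (EtCoh.const X (ZMod N)) 0 a) y = E a (s y) :=
  exists_equiv t hc (fun y => CurvesA.ClosedPtSep.isSepClosed_residueField a y (hc y)) N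

end Groth.Agent.Vancyc.H700.PtsZN
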