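import Groth.Agent.Etcore.ExtMap
import Groth.Agent.Sga4h.BidGlobDual

/-!
# Equivariance of the Yoneda pairing

* `act S c m : Ext^m(Z, Z) →+ Ext^m(Z, Z)` for an exact endofunctor `S` and `c : S Z ≅ Z`; it is multiplicative.
* `cmp Ψ u v m : Ext^m(Z, Z) →+ Ext^m(Z_B, G)` for an exact functor `Ψ`, `u : Z_B ⟶ Ψ Z`, `v : Ψ Z ⟶ G`.
* `cmp_act`: compatibility of `cmp` with the action on both sides.
-/

set_option autoImplicit false
universe w w' v v' u u' t

open CategoryTheory CategoryTheory.Limits CategoryTheory.Abelian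
open Groth.Agent.Etcore.ExtMap

namespace Groth.Agent.Vancyc.H700.YonedaEqui

section Act

variable {C : Type u} [Category.{v} C] [Abelian C] [HasExt.{w} C]
  (S : C ⥤ C) [S.Additive] [PreservesFiniteLimits S] [PreservesFiniteColimits S] {Z : C} (c : S.obj Z ≅ Z)

/-- `e ↦ c⁻¹ · S(e) · c`. -/
noncomputable def act (m : ℕ) : Ext.{w} Z Z m →+ Ext.{w} Z Z m :=
  ((Ext.mk₀ c.hom).postcomp Z (add_zero m)).comp (extMap S c.inv Z m)

lemma act_apply (m : ℕ) (e : Ext.{w} Z Z m) :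
    act S c m e = (extMap S c.inv Z m e).comp (Ext.mk₀ c.hom) (add_zero m) := rfl

/-- The action is multiplicative. -/
lemma act_comp {i j k : ℕ} (h : i + j = k) (x : Ext.{w} Z Z i) (y : Ext.{w} Z Z j) :
    act S c k (x.comp y h) = (act S c i x).comp (act S c j y) h := by
  rw [act_apply, act_apply, act_apply, extMap_comp S c.inv h, extMap_apply S c.inv Z j y]
  rw [Ext.comp_assoc_of_third_deg_zero, Ext.comp_assoc_of_second_deg_zero,
    Ext.comp_assoc_of_third_deg_zero, Ext.mk₀_comp_mk₀_assoc, Iso.hom_inv_id, Ext.mk₀_id_comp]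

end Act

section Cmp

variable {C : Type u} [Category.{v} C] [Abelian C] [HasExt.{w} C]
  {B : Type u'} [Category.{v'} B] [Abelian B] [HasExt.{w'} B]
  (Ψ : C ⥤ B) [Ψ.Additive] [PreservesFiniteLimits Ψ] [PreservesFiniteColimits Ψ]
  {Z : C} {ZB G : B} (u : ZB ⟶ Ψ.obj Z) (v : Ψ.obj Z ⟶ G)

/-- `e ↦ u · Ψ(e) · v`. -/
noncomputable def cmp (m : ℕ) : Ext.{w} Z Z m →+ Ext.{w'} ZB G m :=
  ((Ext.mk₀ v).postcomp ZB (add_zero m)).comp (extMap Ψ u Z m)

lemma cmp_apply (m : ℕ) (e : Ext.{w} Z Z m) :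
    cmp Ψ u v m e = (extMap Ψ u Z m e).comp (Ext.mk₀ v) (add_zero m) := rfl

lemma cmp_bijective [IsIso v] (m : ℕ) (h : Function.Bijective (extMap.{w, w'} Ψ u Z m)) :
    Function.Bijective (cmp.{w, w'} Ψ u v m) := by
  have h2 : Function.Bijective (fun y : Ext.{w'} ZB (Ψ.obj Z) m => y.comp (Ext.mk₀ v) (add_zero m)) := by
    refine Function.bijective_iff_has_inverse.2 ⟨fun y => y.comp (Ext.mk₀ (inv v)) (add_zero m), ?_, ?_⟩
    · intro y
      dsimp only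
      rw [Ext.comp_assoc_of_third_deg_zero, Ext.mk₀_comp_mk₀, IsIso.hom_inv_id, Ext.comp_mk₀_id]
    · intro y
      dsimp only
      rw [Ext.comp_assoc_of_third_deg_zero, Ext.mk₀_comp_mk₀, IsIso.inv_hom_id, Ext.comp_mk₀_id]
  exact h2.comp h

variable (SA : C ⥤ C) [SA.Additive] [PreservesFiniteLimits SA] [PreservesFiniteColimits SA]
  (SB : B ⥤ B) [SB.Additive] [PreservesFiniteLimits SB] [PreservesFiniteColimits SB]
  (ι : SA ⋙ Ψ ≅ Ψ ⋙ SB) (c : SA.obj Z ≅ Z) (θZ : ZB ⟶ SB.obj ZB) (θG : SB.obj G ⟶ G)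

/-- Compatibility of the comparison map with the actions. -/
lemma cmp_act [EnoughInjectives C] [EnoughInjectives B]
    (h1 : Ψ.map c.hom ≫ v = ι.hom.app Z ≫ SB.map v ≫ θG)
    (h2 : θZ ≫ SB.map u ≫ ι.inv.app Z ≫ Ψ.map c.hom = u) (m : ℕ) (e : Ext.{w} Z Z m) :
    (extMap SB θZ G m (cmp.{w, w'} Ψ u v m e)).comp (Ext.mk₀ θG) (add_zero m) =
      cmp Ψ u v m (act SA c m e) := by
  have i1 : PreservesFiniteLimits (SA ⋙ Ψ) := comp_preservesFiniteLimits _ _
  have i2 : PreservesFiniteColimits (SA ⋙ Ψ) := comp_preservesFiniteColimits _ _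
  have i3 : PreservesFiniteLimits (Ψ ⋙ SB) := comp_preservesFiniteLimits _ _
  have i4 : PreservesFiniteColimits (Ψ ⋙ SB) := comp_preservesFiniteColimits _ _
  have h3 : θZ ≫ SB.map u ≫ ι.inv.app Z = u ≫ Ψ.map c.inv := by
    have := congrArg (fun t => t ≫ Ψ.map c.inv) h2
    rw [← this, Category.assoc, Category.assoc, Category.assoc, ← Functor.map_comp, Iso.hom_inv_id,
      CategoryTheory.Functor.map_id]
    erw [Category.comp_id]
  rw [cmp_apply, cmp_apply, act_apply, extMap_comp_mk₀, extMap_comp_mk₀, extMap_extMap, extMap_extMap,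
    Ext.comp_assoc_of_third_deg_zero, Ext.comp_assoc_of_third_deg_zero, Ext.mk₀_comp_mk₀, Ext.mk₀_comp_mk₀,
    h1, ← h3]
  have h4 := extMap_natTrans (F := SA ⋙ Ψ) (F' := Ψ ⋙ SB) ι.hom (θZ ≫ SB.map u ≫ ι.inv.app Z) Z m e
  have h5 : (θZ ≫ SB.map u ≫ ι.inv.app Z) ≫ ι.hom.app Z = θZ ≫ SB.map u := by
    rw [Category.assoc, Category.assoc, Iso.inv_hom_id_app]
    erw [Category.comp_id]
  rw [h5] at h4
  rw [← h4, Ext.comp_assoc_of_third_deg_zero, Ext.mk₀_comp_mk₀]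

end Cmp

end Groth.Agent.Vancyc.H700.YonedaEqui
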